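import Cfsg.Agent.Lib.U42.Checks
import Cfsg.Agent.Lib.Base.Cores
import Mathlib.GroupTheory.Sylow

/-!
# An involution with the centralizer of the model
-/

set_option autoImplicit false
set_option linter.unusedSectionVars false
set_option linter.style.haveILetI false
set_option maxRecDepth 100000

namespace CfsgLib.U42

universe u

theorem slMul_lt {a b : ℕ} (ha : a < 24) (hb : b < 24) : slMul a b < 24 :=
  tables_lt.1 a (List.mem_range.2 ha) b (List.mem_range.2 hb)

theorem mk_spec {s a b : ℕ} (hs : s < 2) (ha : a < 24) (hb : b < 24) :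
    mk s a b < 576 ∧ mS (mk s a b) = s :=
  mk_facts s (List.mem_range.2 hs) a (List.mem_range.2 ha) b (List.mem_range.2 hb)

theorem parts_lt {m : ℕ} (hm : m < 576) : mS m < 2 ∧ mA m < 24 ∧ mB m < 24 := by
  unfold mS mA mB
  omega

theorem mulN_spec {m n : ℕ} (hm : m < 576) (hn : n < 576) :
    mulN m n < 576 ∧ mS (mulN m n) = (mS m + mS n) % 2 := by
  obtain ⟨s1, a1, b1⟩ := parts_lt hm
  obtain ⟨s2, a2, b2⟩ := parts_lt hn
  unfold mulN
  split
  · next h =>
    obtain ⟨h1, h2⟩ := mk_spec s2 (slMul_lt a1 a2) (slMul_lt b1 b2)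
    exact ⟨h1, by rw [h2]; omega⟩
  · next h =>
    obtain ⟨h1, h2⟩ := mk_spec (show 1 - mS n < 2 by omega) (slMul_lt a1 b2) (slMul_lt b1 a2)
    exact ⟨h1, by rw [h2]; omega⟩

theorem invN_lt {m : ℕ} (hm : m < 576) : invN m < 576 := (inv_facts m (List.mem_range.2 hm)).1

theorem cjN_lt {n m : ℕ} (hn : n < 576) (hm : m < 576) : cjN n m < 576 :=
  (mulN_spec (mulN_spec hn hm).1 (invN_lt hn)).1

theorem cmN_lt {n m : ℕ} (hn : n < 576) (hm : m < 576) : cmN n m < 576 :=
  (mulN_spec (cjN_lt hn hm) (invN_lt hm)).1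

theorem powN_lt {m : ℕ} (hm : m < 576) : ∀ k, powN m k < 576
  | 0 => by norm_num [powN]
  | k + 1 => (mulN_spec (powN_lt hm k) hm).1

theorem mem_els {m : ℕ} (hm : m < 576) : m ∈ els := List.mem_range.2 hm

theorem lt_of_mem {m : ℕ} (h : m ∈ wl ++ tl ++ ql ++ syl ++ qn ++ dl ++ el) : m < 576 :=
  of_decide_eq_true (List.all_eq_true.1 lists_lt m h)

theorem named {m : ℕ} (h : m ∈ [tN, wN, zN, iN, rN, jN, viN, vjN, vkN, dN, vN]) : m < 576 :=
  of_decide_eq_true (List.all_eq_true.1 named_lt m h)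

theorem wl_lt {m : ℕ} (h : m ∈ wl) : m < 576 := lt_of_mem (by simp [h])
theorem tl_lt {m : ℕ} (h : m ∈ tl) : m < 576 := lt_of_mem (by simp [h])
theorem ql_lt {m : ℕ} (h : m ∈ ql) : m < 576 := lt_of_mem (by simp [h])
theorem syl_lt {m : ℕ} (h : m ∈ syl) : m < 576 := lt_of_mem (by simp [h])
theorem qn_lt {m : ℕ} (h : m ∈ qn) : m < 576 := lt_of_mem (by simp [h])
theorem dl_lt {m : ℕ} (h : m ∈ dl) : m < 576 := lt_of_mem (by simp [h])
theorem el_lt {m : ℕ} (h : m ∈ el) : m < 576 := lt_of_mem (by simp [h])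

/-- The centralizer of the involution `t` is given by the model. -/
structure Cen {G : Type u} [Group G] (t : G) where
  ord : orderOf t = 2
  val : ℕ → G
  val_mul : ∀ m n, m < 576 → n < 576 → val (mulN m n) = val m * val n
  val_comm : ∀ m, m < 576 → val m * t = t * val m
  val_inj : ∀ m n, m < 576 → n < 576 → val m = val n → m = n
  val_surj : ∀ g, g * t = t * g → ∃ m < 576, val m = g
  val_tau : val tN = t

namespace Cen

variable {G : Type u} [Group G] {t : G} (D : Cen t)
include D

theorem tt : t * t = 1 := by rw [← pow_two, ← D.ord, pow_orderOf_eq_one]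

theorem tinv : t⁻¹ = t := inv_eq_of_mul_eq_one_right D.tt

theorem val_zero : D.val 0 = 1 := by
  have h := D.val_mul 0 0 (by norm_num) (by norm_num)
  rw [(inv_facts 0 (mem_els (by norm_num))).2.2] at h
  exact left_eq_mul.1 h

theorem val_inv {m : ℕ} (hm : m < 576) : D.val (invN m) = (D.val m)⁻¹ := by
  refine eq_inv_of_mul_eq_one_right ?_
  rw [← D.val_mul _ _ hm (invN_lt hm), (inv_facts m (mem_els hm)).2.1, D.val_zero]

theorem val_cj {n m : ℕ} (hn : n < 576) (hm : m < 576) :
    D.val (cjN n m) = D.val n * D.val m * (D.val n)⁻¹ := by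
  rw [cjN, D.val_mul _ _ (mulN_spec hn hm).1 (invN_lt hn), D.val_mul _ _ hn hm, D.val_inv hn]

theorem val_cm {n m : ℕ} (hn : n < 576) (hm : m < 576) :
    D.val (cmN n m) = D.val n * D.val m * (D.val n)⁻¹ * (D.val m)⁻¹ := by
  rw [cmN, D.val_mul _ _ (cjN_lt hn hm) (invN_lt hm), D.val_cj hn hm, D.val_inv hm]

theorem val_pow {m : ℕ} (hm : m < 576) : ∀ k, D.val (powN m k) = D.val m ^ k
  | 0 => by rw [powN, pow_zero, D.val_zero]
  | k + 1 => by rw [powN, D.val_mul _ _ (powN_lt hm k) hm, val_pow hm k, pow_succ]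

theorem val_eq_one {m : ℕ} (hm : m < 576) (h : D.val m = 1) : m = 0 :=
  D.val_inj m 0 hm (by norm_num) (h.trans D.val_zero.symm)

theorem mul_val_eq {m n : ℕ} (hm : m < 576) (hn : n < 576)
    (h : D.val m * D.val n = D.val n * D.val m) : mulN m n = mulN n m :=
  D.val_inj _ _ (mulN_spec hm hn).1 (mulN_spec hn hm).1 (by
    rw [D.val_mul m n hm hn, D.val_mul n m hn hm, h])

theorem val_commute {m n : ℕ} (hm : m < 576) (hn : n < 576) (h : mulN m n = mulN n m) :
    D.val m * D.val n = D.val n * D.val m := by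
  rw [← D.val_mul m n hm hn, ← D.val_mul n m hn hm, h]

theorem val_invol {m : ℕ} (h : m ∈ tN :: (wl ++ tl ++ ql)) : orderOf (D.val m) = 2 := by
  have hlt : m < 576 := by
    simp only [List.mem_cons, List.mem_append] at h
    rcases h with rfl | (h | h) | h
    exacts [named (by simp), wl_lt h, tl_lt h, ql_lt h]
  refine orderOf_eq_prime ?_ fun e => (invol_lists m h).2 (D.val_eq_one hlt e)
  rw [pow_two, ← D.val_mul m m hlt hlt, (invol_lists m h).1, D.val_zero]

theorem isConj_val {m m' : ℕ} (hm : m < 576) {n : ℕ} (hn : n < 576) (h : cjN n m = m') :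
    IsConj (D.val m) (D.val m') :=
  isConj_iff.2 ⟨D.val n, by rw [← D.val_cj hn hm, h]⟩

theorem wl_conj {m : ℕ} (h : m ∈ wl) : IsConj (D.val wN) (D.val m) := by
  obtain ⟨n, hn, e⟩ := wl_class m h
  exact D.isConj_val (named (by simp)) (List.mem_range.1 hn) e

theorem tl_conj {m : ℕ} (h : m ∈ tl) : IsConj (D.val zN) (D.val m) := by
  obtain ⟨n, hn, e⟩ := tl_class m h
  exact D.isConj_val (named (by simp)) (List.mem_range.1 hn) e

theorem ql_conj {m : ℕ} (h : m ∈ ql) : IsConj (D.val (mulN tN viN)) (D.val m) := by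
  obtain ⟨n, hn, e⟩ := ql_class m h
  exact D.isConj_val (ql_lt reps_mem.2.2.1) (List.mem_range.1 hn) e

/-- An involution commuting with `t` lies in one of the four classes of the model. -/
theorem invol_val {u : G} (hu : orderOf u = 2) (hc : u * t = t * u) :
    ∃ m < 576, D.val m = u ∧ (m = tN ∨ m ∈ wl ∨ m ∈ tl ∨ m ∈ ql) := by
  obtain ⟨m, hm, rfl⟩ := D.val_surj u hc
  refine ⟨m, hm, rfl, ?_⟩
  rcases invol_cases m (mem_els hm) (D.val_eq_one (mulN_spec hm hm).1 (by
    rw [D.val_mul m m hm hm, ← pow_two, ← hu, pow_orderOf_eq_one])) with rfl | h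
  · rw [D.val_zero, orderOf_one] at hu
    norm_num at hu
  · exact h

/-- A second description of the same centralizer: the odd part is multiplied by `t`. -/
def twist : Cen t where
  ord := D.ord
  val m := D.val m * t ^ mS m
  val_mul m n hm hn := by
    obtain ⟨hlt, hs⟩ := mulN_spec hm hn
    have hc : Commute (t ^ mS m) (D.val n) := (show Commute t (D.val n) from (D.val_comm n hn).symm).pow_left _
    have h2 : t ^ ((mS m + mS n) % 2) = t ^ (mS m + mS n) := by rw [← D.ord, pow_mod_orderOf]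
    rw [D.val_mul m n hm hn, hs, h2, pow_add]
    simp only [mul_assoc]
    rw [← mul_assoc (t ^ mS m), hc.eq, mul_assoc]
  val_comm m hm := by
    rw [mul_assoc, (Commute.pow_self t _).eq, ← mul_assoc, D.val_comm m hm, mul_assoc]
  val_inj m n hm hn h := by
    have hm' := parts_lt hm
    have hn' := parts_lt hn
    have key : D.val (mulN m (powN tN (mS m))) = D.val (mulN n (powN tN (mS n))) := by
      rw [D.val_mul _ _ hm (powN_lt (named (by simp)) _), D.val_mul _ _ hn
        (powN_lt (named (by simp)) _), D.val_pow (named (by simp)), D.val_pow (named (by simp)),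
        D.val_tau, h]
    have h2 := D.val_inj _ _ (mulN_spec hm (powN_lt (named (by simp)) _)).1
      (mulN_spec hn (powN_lt (named (by simp)) _)).1 key
    have hs := congrArg mS h2
    have ht : ∀ k, k < 2 → mS (powN tN k) = 0 := by decide +kernel
    rw [(mulN_spec hm (powN_lt (named (by simp)) _)).2, (mulN_spec hn (powN_lt (named (by simp)) _)).2,
      ht _ hm'.1, ht _ hn'.1] at hs
    have hs' : mS m = mS n := by omega
    rw [hs'] at h
    exact D.val_inj m n hm hn (mul_right_cancel h)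
  val_surj g hg := by
    obtain ⟨m, hm, rfl⟩ := D.val_surj g hg
    refine ⟨mulN m (powN tN (mS m)), (mulN_spec hm (powN_lt (named (by simp)) _)).1, ?_⟩
    have ht : ∀ k, k < 2 → mS (powN tN k) = 0 := by decide +kernel
    rw [D.val_mul _ _ hm (powN_lt (named (by simp)) _), D.val_pow (named (by simp)), D.val_tau,
      (mulN_spec hm (powN_lt (named (by simp)) _)).2, ht _ (parts_lt hm).1, add_zero,
      Nat.mod_eq_of_lt (parts_lt hm).1, mul_assoc, ← pow_add, ← two_mul, pow_mul, pow_two, D.tt,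
      one_pow, mul_one]
  val_tau := by
    show D.val tN * t ^ mS tN = t
    rw [show mS tN = 0 by decide +kernel, pow_zero, mul_one, D.val_tau]

theorem twist_wN : D.twist.val wN = D.val zN := by
  show D.val wN * t ^ mS wN = D.val zN
  rw [show mS wN = 1 by decide +kernel, pow_one, D.val_comm _ (named (by simp)), reps_mem.2.2.2,
    D.val_mul _ _ (named (by simp)) (named (by simp)), D.val_tau]

theorem twist_zN : D.twist.val zN = D.val wN := by
  show D.val zN * t ^ mS zN = D.val wN
  rw [show mS zN = 1 by decide +kernel, pow_one, D.val_comm _ (named (by simp)), ← D.twist_wN]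
  show t * (D.val wN * t ^ mS wN) = D.val wN
  rw [show mS wN = 1 by decide +kernel, pow_one, ← mul_assoc, ← D.val_comm _ (named (by simp)),
    mul_assoc, D.tt, mul_one]

end Cen

end CfsgLib.U42
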