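import Cfsg.Agent.Lib.U42.Kay
import Cfsg.Agent.Lib.FgsB.Basic
import Cfsg.Agent.Lib.Involutions.Dihedral

/-!
# The order of the group
-/

set_option autoImplicit false
set_option linter.unusedSectionVars false
set_option linter.style.haveILetI false
set_option maxRecDepth 100000

namespace CfsgLib.U42

open Cfsg CfsgLib.Involutions

universe u

/-! ### The order formula for two classes of involutions -/

section Formula

variable {G : Type u} [Group G] [Finite G]

/-- The pairs from two classes whose product has `x` as a power. -/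
def Pair (a b x : G) : Type u :=
  {p : G × G // IsConj a p.1 ∧ IsConj b p.2 ∧ p.1 * x = x * p.1 ∧ p.2 * x = x * p.2 ∧
    ∃ i : ℕ, (p.1 * p.2) ^ i = x}

theorem pair_conj (a b x k : G) :
    Nat.card (Pair a b x) = Nat.card (Pair a b (k * x * k⁻¹)) := by
  have key : ∀ (x k : G) (p : G × G), (IsConj a p.1 ∧ IsConj b p.2 ∧ p.1 * x = x * p.1 ∧
      p.2 * x = x * p.2 ∧ ∃ i : ℕ, (p.1 * p.2) ^ i = x) →
      IsConj a (k * p.1 * k⁻¹) ∧ IsConj b (k * p.2 * k⁻¹) ∧
        k * p.1 * k⁻¹ * (k * x * k⁻¹) = k * x * k⁻¹ * (k * p.1 * k⁻¹) ∧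
        k * p.2 * k⁻¹ * (k * x * k⁻¹) = k * x * k⁻¹ * (k * p.2 * k⁻¹) ∧
        ∃ i : ℕ, (k * p.1 * k⁻¹ * (k * p.2 * k⁻¹)) ^ i = k * x * k⁻¹ := by
    rintro x k p ⟨h1, h2, h3, h4, i, hi⟩
    refine ⟨h1.trans (isConj_iff.2 ⟨k, rfl⟩), h2.trans (isConj_iff.2 ⟨k, rfl⟩), conj_comm h3,
      conj_comm h4, i, ?_⟩
    rw [show k * p.1 * k⁻¹ * (k * p.2 * k⁻¹) = k * (p.1 * p.2) * k⁻¹ by group, conj_pow, hi]
  refine Nat.card_congr
    { toFun := fun p => ⟨(k * p.1.1 * k⁻¹, k * p.1.2 * k⁻¹), key x k p.1 p.2⟩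
      invFun := fun p => ⟨(k⁻¹ * p.1.1 * k⁻¹⁻¹, k⁻¹ * p.1.2 * k⁻¹⁻¹), by
        have h := key _ k⁻¹ p.1 p.2
        rwa [show k⁻¹ * (k * x * k⁻¹) * k⁻¹⁻¹ = x by group] at h⟩
      left_inv := fun p => Subtype.ext (Prod.ext (by group) (by group))
      right_inv := fun p => Subtype.ext (Prod.ext (by group) (by group)) }

theorem order_formula {a b : G} (ha : orderOf a = 2) (hb : orderOf b = 2) (hab : ¬ IsConj a b)
    (hall : ∀ v : G, orderOf v = 2 → IsConj a v ∨ IsConj b v) :
    Nat.card G = Nat.card (Subgroup.centralizer ({b} : Set G)) * Nat.card (Pair a b a) +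
      Nat.card (Subgroup.centralizer ({a} : Set G)) * Nat.card (Pair a b b) := by
  classical
  haveI := Fintype.ofFinite G
  haveI : ∀ x : G, Finite (Pair a b x) := fun x => Subtype.finite
  -- every pair singles out one involution
  have inv_of : ∀ {a u : G}, orderOf a = 2 → IsConj a u → orderOf u = 2 := fun {a u} ha h => by
    obtain ⟨k, rfl⟩ := isConj_iff.1 h
    exact ((MulAut.conj k).orderOf_eq a).trans ha
  have huniq : ∀ {w x y : G} {i j : ℕ}, orderOf x = 2 → orderOf y = 2 → w ^ i = x → w ^ j = y →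
      x = y := by
    intro w x y i j hx hy hi hj
    have hn : 0 < orderOf w := orderOf_pos w
    have key : ∀ {x : G} {i : ℕ}, orderOf x = 2 → w ^ i = x →
        Even (orderOf w) ∧ x = w ^ (orderOf w / 2) := by
      intro x i hx hi
      subst hi
      have h2 : orderOf w ∣ i * 2 := orderOf_dvd_of_pow_eq_one (by
        rw [pow_mul, ← hx, pow_orderOf_eq_one])
      have h1 : ¬ orderOf w ∣ i := fun h => by
        rw [orderOf_dvd_iff_pow_eq_one.1 h, orderOf_one] at hx
        norm_num at hx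
      obtain ⟨c, hc⟩ := h2
      have he : Even (orderOf w) := by
        by_contra ho
        rw [Nat.not_even_iff_odd] at ho
        exact h1 ((Nat.coprime_two_right.2 ho).dvd_of_dvd_mul_right ⟨c, hc⟩)
      obtain ⟨m, hm⟩ := he
      refine ⟨⟨m, hm⟩, ?_⟩
      have hi2 : i = m * c := by
        have e : (m + m) * c = m * c + m * c := by ring
        rw [hm] at hc
        omega
      have hcodd : Odd c := by
        by_contra hce
        obtain ⟨d, rfl⟩ := Nat.not_odd_iff_even.1 hce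
        exact h1 ⟨d, by rw [hi2, hm]; ring⟩
      rw [show orderOf w / 2 = m by omega, hi2, pow_mul]
      obtain ⟨d, rfl⟩ := hcodd
      rw [pow_succ, pow_mul, ← pow_mul w, show m * 2 = orderOf w by omega, pow_orderOf_eq_one,
        one_pow, one_mul]
    rw [(key hx hi).2, (key hy hj).2]
  let I := {x : G // orderOf x = 2}
  haveI : Finite I := Subtype.finite
  have e1 : Nat.card ({u : G // IsConj a u} × {v : G // IsConj b v}) =
      Nat.card (Σ x : I, Pair a b x.1) := by
    symm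
    refine Nat.card_eq_of_bijective
      (fun s => (⟨s.2.1.1, s.2.2.1⟩, ⟨s.2.1.2, s.2.2.2.1⟩)) ⟨?_, ?_⟩
    · rintro ⟨x, ⟨p, hp⟩⟩ ⟨y, ⟨q, hq⟩⟩ h
      have hpq : p = q := Prod.ext (congrArg (fun r => r.1.1) h) (congrArg (fun r => r.2.1) h)
      subst hpq
      obtain ⟨-, -, -, -, i, hi⟩ := hp
      obtain ⟨-, -, -, -, j, hj⟩ := id hq
      obtain rfl : x = y := Subtype.ext (huniq x.2 y.2 hi hj)
      rfl
    · rintro ⟨⟨u, hu⟩, ⟨v, hv⟩⟩
      have hu2 := inv_of ha hu
      have hv2 := inv_of hb hv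
      have heven : Even (orderOf (u * v)) := by
        by_contra ho
        exact hab ((hu.trans (isConj_of_odd_prod hu2 hv2 (Nat.not_even_iff_odd.1 ho))).trans hv.symm)
      exact ⟨⟨⟨_, half_invol heven⟩, ⟨(u, v), hu, hv, (half_comm_left hu2 hv2 heven).eq.symm,
        (half_comm_right hu2 hv2 heven).eq.symm, _, rfl⟩⟩, rfl⟩
  haveI : Fintype I := Fintype.ofFinite I
  rw [Nat.card_prod, Nat.card_sigma] at e1
  have e2 : ∑ x : I, Nat.card (Pair a b x.1) =
      Nat.card {u : G // IsConj a u} * Nat.card (Pair a b a) +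
      Nat.card {v : G // IsConj b v} * Nat.card (Pair a b b) := by
    rw [← Finset.sum_filter_add_sum_filter_not Finset.univ (fun x : I => IsConj a x.1)]
    congr 1
    · rw [Finset.sum_congr rfl (g := fun _ => Nat.card (Pair a b a)) (fun x hx => by
        obtain ⟨k, hk⟩ := isConj_iff.1 (Finset.mem_filter.1 hx).2
        rw [← hk, ← pair_conj]), Finset.sum_const, smul_eq_mul]
      congr 1
      rw [← Fintype.card_subtype, ← Nat.card_eq_fintype_card]
      exact Nat.card_congr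
        { toFun := fun x => ⟨x.1.1, x.2⟩
          invFun := fun u => ⟨⟨u.1, inv_of ha u.2⟩, u.2⟩
          left_inv := fun x => rfl
          right_inv := fun u => rfl }
    · rw [Finset.sum_congr rfl (g := fun _ => Nat.card (Pair a b b)) (fun x hx => by
        obtain ⟨k, hk⟩ := isConj_iff.1 ((hall _ x.2).resolve_left (Finset.mem_filter.1 hx).2)
        rw [← hk, ← pair_conj]), Finset.sum_const, smul_eq_mul]
      congr 1
      rw [← Fintype.card_subtype, ← Nat.card_eq_fintype_card]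
      exact Nat.card_congr
        { toFun := fun x => ⟨x.1.1, (hall _ x.1.2).resolve_left x.2⟩
          invFun := fun u => ⟨⟨u.1, inv_of hb u.2⟩, fun h => hab (h.trans u.2.symm)⟩
          left_inv := fun x => rfl
          right_inv := fun u => rfl }
  rw [e2, CfsgLib.FgsB.card_isConj_eq_index, CfsgLib.FgsB.card_isConj_eq_index] at e1
  have h1 := (Subgroup.centralizer ({a} : Set G)).card_mul_index
  have h2 := (Subgroup.centralizer ({b} : Set G)).card_mul_index
  have hpos : 0 < Nat.card G := Nat.card_pos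
  refine Nat.eq_of_mul_eq_mul_left hpos ?_
  generalize Nat.card (Pair a b a) = P, Nat.card (Pair a b b) = Q at e1 ⊢
  generalize Nat.card (Subgroup.centralizer ({a} : Set G)) = ca,
    Nat.card (Subgroup.centralizer ({b} : Set G)) = cb,
    (Subgroup.centralizer ({a} : Set G)).index = ia,
    (Subgroup.centralizer ({b} : Set G)).index = ib at e1 h1 h2 ⊢
  calc Nat.card G * Nat.card G = (ca * cb) * (ia * ib) := by
        rw [show ca * cb * (ia * ib) = (ca * ia) * (cb * ib) by ring, h1, h2]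
    _ = (ca * cb) * (ia * P + ib * Q) := by rw [e1]
    _ = (ca * ia) * (cb * P) + (cb * ib) * (ca * Q) := by ring
    _ = _ := by rw [h1, h2]; ring

end Formula

/-! ### The model of the centralizer of `t w` -/

/-- The image of a tuple under the exchange. -/
def gEl (p : Nat × Nat × Nat × Nat × Nat) : Nat :=
  mulN (mulN (mulN (mulN (powN wN p.1) (powN tN p.2.1)) (powN viN p.2.2.1)) (powN vkN p.2.2.2.1))
    (powN (invN dN) p.2.2.2.2)

/-- The exchange on the centralizer of the pair. -/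
def gam (m : Nat) : Nat :=
  ((dTup.find? fun p => dEl p.1 p.2.1 p.2.2.1 p.2.2.2.1 p.2.2.2.2 == m).map gEl).getD 0

/-- The product in the centralizer of `t w`: `m + 576 ε` stands for `m g^ε`. -/
def kmul (p q : Nat) : Nat :=
  if p < 576 then mulN p (q % 576) + 576 * (q / 576)
  else mulN (p % 576) (gam (q % 576)) + 576 * (1 - q / 576)

/-- Powers. -/
def kpow (p : Nat) : Nat → Nat
  | 0 => 0
  | k + 1 => kmul (kpow p k) p

/-- The elements of the centralizer of `t w`. -/
def klist : List Nat := dl ++ dl.map (· + 576)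

/-- Its conjugates of `t`. -/
def akl : List Nat := dl.filter fun m => (tN :: wl).contains m

/-- Its other involutions. -/
def bkl : List Nat := klist.filter fun p => kmul p p == 0 && p != 0 && !akl.contains p

/-- The first pair count. -/
def cntT : Nat := (((tN :: wl).product (tl ++ ql)).filter fun p =>
  (List.range 24).any fun i => powN (mulN p.1 p.2) i == tN).length

/-- The second pair count. -/
def cntZ : Nat := ((akl.product bkl).filter fun p =>
  (List.range 24).any fun i => kpow (kmul p.1 p.2) i == zN).length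

theorem counts : cntT = 108 ∧ cntZ = 27 := by decide +kernel

theorem exponents : (∀ m ∈ els, powN m 24 = 0) ∧ (∀ p ∈ klist, kpow p 24 = 0) := by decide +kernel

theorem gam_facts : (∀ m ∈ dl, gam m ∈ dl) ∧ (∀ p ∈ klist, ∀ q ∈ klist, kmul p q ∈ klist) ∧
    (∀ m ∈ dl, ∀ n ∈ dl, mulN m n ∈ dl) ∧ 0 ∈ dl := by decide +kernel

theorem klist_facts : klist.length = 96 ∧ klist.Nodup ∧ akl.Nodup ∧ bkl.Nodup ∧
    (∀ p ∈ akl, p ∈ klist) ∧ zN ∈ klist := by decide +kernel

variable {G : Type u} [Group G] [Finite G] {t : G}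

namespace Cen

variable (D : Cen t)
include D

/-- The elements of the centralizer of `t w`. -/
def kval (g : G) (p : ℕ) : G := D.val (p % 576) * g ^ (p / 576)

theorem klist_cases {p : ℕ} (h : p ∈ klist) :
    (p ∈ dl ∧ p % 576 = p ∧ p / 576 = 0) ∨
      (∃ m ∈ dl, p = m + 576 ∧ p % 576 = m ∧ p / 576 = 1) := by
  simp only [klist, List.mem_append, List.mem_map] at h
  rcases h with h | ⟨m, hm, rfl⟩
  · exact Or.inl ⟨h, Nat.mod_eq_of_lt (dl_lt h), Nat.div_eq_of_lt (dl_lt h)⟩
  · have := dl_lt hm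
    exact Or.inr ⟨m, hm, rfl, by omega, by omega⟩

theorem val_dEl (a b c d e : ℕ) : D.val (dEl a b c d e) =
    t ^ a * D.val wN ^ b * D.val viN ^ c * D.val vjN ^ d * D.val dN ^ e := by
  have ht := named (m := tN) (by simp)
  have hw := named (m := wN) (by simp)
  have hi := named (m := viN) (by simp)
  have hj := named (m := vjN) (by simp)
  have hd := named (m := dN) (by simp)
  have l1 := (mulN_spec (powN_lt ht a) (powN_lt hw b)).1
  have l2 := (mulN_spec l1 (powN_lt hi c)).1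
  have l3 := (mulN_spec l2 (powN_lt hj d)).1
  rw [dEl, D.val_mul _ _ l3 (powN_lt hd e), D.val_mul _ _ l2 (powN_lt hj d),
    D.val_mul _ _ l1 (powN_lt hi c), D.val_mul _ _ (powN_lt ht a) (powN_lt hw b), D.val_pow ht,
    D.val_pow hw, D.val_pow hi, D.val_pow hj, D.val_pow hd, D.val_tau]

theorem val_gEl (p : ℕ × ℕ × ℕ × ℕ × ℕ) : D.val (gEl p) =
    D.val wN ^ p.1 * t ^ p.2.1 * D.val viN ^ p.2.2.1 * D.val vkN ^ p.2.2.2.1 *
      (D.val dN)⁻¹ ^ p.2.2.2.2 := by
  have ht := named (m := tN) (by simp)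
  have hw := named (m := wN) (by simp)
  have hi := named (m := viN) (by simp)
  have hj := named (m := vkN) (by simp)
  have hd := invN_lt (named (m := dN) (by simp))
  have l1 := (mulN_spec (powN_lt hw p.1) (powN_lt ht p.2.1)).1
  have l2 := (mulN_spec l1 (powN_lt hi p.2.2.1)).1
  have l3 := (mulN_spec l2 (powN_lt hj p.2.2.2.1)).1
  rw [gEl, D.val_mul _ _ l3 (powN_lt hd p.2.2.2.2), D.val_mul _ _ l2 (powN_lt hj p.2.2.2.1),
    D.val_mul _ _ l1 (powN_lt hi p.2.2.1), D.val_mul _ _ (powN_lt hw p.1) (powN_lt ht p.2.1),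
    D.val_pow ht, D.val_pow hw, D.val_pow hi, D.val_pow hj, D.val_pow hd, D.val_tau,
    D.val_inv (named (by simp))]

theorem val_gam {g : G} (hg : D.Std g) {m : ℕ} (hm : m ∈ dl) :
    D.val (gam m) = g * D.val m * g := by
  have hgi : g⁻¹ = g := inv_eq_of_mul_eq_one_right hg.gg
  obtain ⟨p, hp, hpm⟩ := List.mem_map.1 hm
  have hsome : (dTup.find? fun p => dEl p.1 p.2.1 p.2.2.1 p.2.2.2.1 p.2.2.2.2 == m).isSome := by
    rw [List.find?_isSome]
    exact ⟨p, hp, by simp [hpm]⟩
  obtain ⟨q, hq⟩ := Option.isSome_iff_exists.1 hsome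
  have hqm : dEl q.1 q.2.1 q.2.2.1 q.2.2.2.1 q.2.2.2.2 = m := by
    simpa using List.find?_some hq
  rw [gam, hq, Option.map_some, Option.getD_some, ← hqm, D.val_gEl, D.val_dEl]
  have key : ∀ x : G, g * x * g = MulAut.conj g x := fun x => by rw [MulAut.conj_apply, hgi]
  simp only [key, map_mul, map_pow]
  simp only [← key, hg.gt, hg.gw, hg.gvi, hg.gvj, hg.gd]

theorem kval_mul {g : G} (hg : D.Std g) {p q : ℕ} (hp : p ∈ klist) (hq : q ∈ klist) :
    D.kval g (kmul p q) = D.kval g p * D.kval g q := by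
  obtain ⟨n, hn, hqm, hq1⟩ : ∃ n ∈ dl, q % 576 = n ∧ q / 576 < 2 := by
    rcases D.klist_cases hq with ⟨h, a, b⟩ | ⟨m, h, -, a, b⟩
    · exact ⟨q, h, a, by omega⟩
    · exact ⟨m, h, a, by omega⟩
  have step : ∀ a e, a ∈ dl → D.kval g (a + 576 * e) = D.val a * g ^ e := fun a e ha => by
    have := dl_lt ha
    rw [kval, show (a + 576 * e) % 576 = a by omega, show (a + 576 * e) / 576 = e by omega]
  rcases D.klist_cases hp with ⟨hm, hp1, hp2⟩ | ⟨m, hm, rfl, hp1, hp2⟩
  · rw [kmul, if_pos (dl_lt hm), hqm, step _ _ (gam_facts.2.2.1 p hm n hn),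
      D.val_mul _ _ (dl_lt hm) (dl_lt hn), kval, kval, hp1, hp2, hqm, pow_zero, mul_one, mul_assoc]
  · rw [kmul, if_neg (by omega), hp1, hqm,
      step _ _ (gam_facts.2.2.1 m hm _ (gam_facts.1 n hn)),
      D.val_mul _ _ (dl_lt hm) (dl_lt (gam_facts.1 n hn)), D.val_gam hg hn, kval, kval, hp1, hp2,
      hqm, pow_one]
    rcases (show q / 576 = 0 ∨ q / 576 = 1 by omega) with e | e <;> rw [e]
    · simp only [Nat.sub_zero, pow_one, pow_zero, mul_one, mul_assoc, hg.gg]
    · simp only [Nat.sub_self, pow_one, pow_zero, mul_one, mul_assoc]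

theorem kval_zero (g : G) : D.kval g 0 = 1 := by simp [kval, D.val_zero]

theorem kval_pow {g : G} (hg : D.Std g) {p : ℕ} (hp : p ∈ klist) :
    ∀ k, kpow p k ∈ klist ∧ D.kval g (kpow p k) = D.kval g p ^ k
  | 0 => ⟨List.mem_append_left _ gam_facts.2.2.2, by rw [kpow, D.kval_zero, pow_zero]⟩
  | k + 1 => by
    obtain ⟨h1, h2⟩ := kval_pow hg hp k
    exact ⟨gam_facts.2.1 _ h1 p hp, by rw [kpow, D.kval_mul hg h1 hp, h2, pow_succ]⟩

theorem g_not_cent {g : G} (hg : D.Std g) : g * t ≠ t * g := fun h => by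
  have := hg.gt
  rw [h, mul_assoc, hg.gg, mul_one] at this
  exact (disjoint_lists.1 wN reps_mem.1).2.2 (D.val_inj _ _ (named (by simp)) (named (by simp))
    (this.symm.trans D.val_tau.symm))

theorem kval_inj {g : G} (hg : D.Std g) {p q : ℕ} (hp : p ∈ klist) (hq : q ∈ klist)
    (h : D.kval g p = D.kval g q) : p = q := by
  have hno : ∀ m, m ∈ dl → ∀ n, n ∈ dl → D.val m ≠ D.val n * g := fun m hm n hn e => by
    refine D.g_not_cent hg ?_
    have hgv : g = D.val (mulN (invN n) m) := by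
      rw [D.val_mul _ _ (invN_lt (dl_lt hn)) (dl_lt hm), D.val_inv (dl_lt hn), e, inv_mul_cancel_left]
    rw [hgv]
    exact D.val_comm _ (mulN_spec (invN_lt (dl_lt hn)) (dl_lt hm)).1
  rcases D.klist_cases hp with ⟨hm, a1, a2⟩ | ⟨m, hm, rfl, a1, a2⟩ <;>
    rcases D.klist_cases hq with ⟨hn, b1, b2⟩ | ⟨n, hn, rfl, b1, b2⟩ <;>
    simp only [kval, a1, a2, b1, b2, pow_zero, pow_one, mul_one] at h
  · exact D.val_inj _ _ (dl_lt hm) (dl_lt hn) h
  · exact absurd h (hno _ hm _ hn)
  · exact absurd h.symm (hno _ hn _ hm)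
  · rw [D.val_inj _ _ (dl_lt hm) (dl_lt hn) (mul_right_cancel h)]

theorem kval_comm_z {g : G} (hg : D.Std g) {p : ℕ} (hp : p ∈ klist) :
    D.kval g p * D.val zN = D.val zN * D.kval g p := by
  have e := D.kval_mul hg hp klist_facts.2.2.2.2.2
  have e' := D.kval_mul hg klist_facts.2.2.2.2.2 hp
  have hz : D.kval g zN = D.val zN := by
    have hlt : zN < 576 := named (by simp)
    rw [kval, Nat.mod_eq_of_lt hlt, Nat.div_eq_of_lt hlt, pow_zero, mul_one]
  have hc : ∀ p ∈ klist, kmul p zN = kmul zN p := by decide +kernel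
  rw [hz] at e e'
  rw [← e, ← e', hc p hp]

theorem exists_kval (hw : IsConj t (D.val wN)) {g : G} (hg : D.Std g) {x : G}
    (hx : x * D.val zN = D.val zN * x) : ∃ p ∈ klist, D.kval g p = x := by
  obtain ⟨m, hm, rfl | rfl⟩ := D.mem_cent_z hw hg hx
  · refine ⟨m, List.mem_append_left _ hm, ?_⟩
    rw [kval, Nat.mod_eq_of_lt (dl_lt hm), Nat.div_eq_of_lt (dl_lt hm), pow_zero, mul_one]
  · refine ⟨m + 576, List.mem_append_right _ (List.mem_map.2 ⟨m, hm, rfl⟩), ?_⟩
    have := dl_lt hm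
    rw [kval, show (m + 576) % 576 = m by omega, show (m + 576) / 576 = 1 by omega, pow_one]

theorem card_cent_z (hw : IsConj t (D.val wN)) :
    Nat.card (Subgroup.centralizer ({D.val zN} : Set G)) = 96 := by
  classical
  obtain ⟨g, hg⟩ := D.exists_std hw
  rw [← klist_facts.1]
  have e : {p // p ∈ klist} ≃ Subgroup.centralizer ({D.val zN} : Set G) :=
    Equiv.ofBijective (fun p => ⟨D.kval g p.1,
        Subgroup.mem_centralizer_singleton_iff.2 (D.kval_comm_z hg p.2)⟩)
      ⟨fun a b h => Subtype.ext (D.kval_inj hg a.2 b.2 (congrArg Subtype.val h)), fun ⟨x, hx⟩ => by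
        obtain ⟨p, hp, e⟩ := D.exists_kval hw hg (Subgroup.mem_centralizer_singleton_iff.1 hx)
        exact ⟨⟨p, hp⟩, Subtype.ext e⟩⟩
  rw [← Nat.card_congr e, Nat.card_eq_fintype_card,
    Fintype.card_of_subtype klist.toFinset (fun x => List.mem_toFinset),
    List.toFinset_card_of_nodup klist_facts.2.1]

theorem conj_t_iff (hw : IsConj t (D.val wN)) {m : ℕ} (hm : m < 576) :
    IsConj t (D.val m) ↔ m ∈ tN :: wl := by
  constructor
  · intro h
    by_cases he : D.val m = t
    · rw [D.val_inj m tN hm (named (by simp)) (he.trans D.val_tau.symm)]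
      exact List.mem_cons_self ..
    · obtain ⟨n, hn, e⟩ := D.mem_wl_of_conj hw h (D.val_comm m hm) he
      exact List.mem_cons_of_mem _ (D.val_inj n m (wl_lt hn) hm e ▸ hn)
  · intro h
    rcases List.mem_cons.1 h with rfl | h
    · rw [D.val_tau]
    · exact hw.trans (D.wl_conj h)

theorem conj_z_iff (hw : IsConj t (D.val wN)) {m : ℕ} (hm : m < 576) :
    IsConj (D.val zN) (D.val m) ↔ m ∈ tl ++ ql := by
  constructor
  · intro h
    have ho : orderOf (D.val m) = 2 := by
      obtain ⟨k, hk⟩ := isConj_iff.1 h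
      rw [← hk]
      exact ((MulAut.conj k).orderOf_eq _).trans (D.val_invol (by simp [reps_mem.2.1]))
    obtain ⟨n, hn, e, rfl | h' | h' | h'⟩ := D.invol_val ho (D.val_comm m hm)
    · rw [← e, D.val_tau] at h; exact absurd h.symm (D.not_conj_z hw)
    · rw [← e] at h; exact absurd ((hw.trans (D.wl_conj h')).trans h.symm) (D.not_conj_z hw)
    · exact List.mem_append_left _ (D.val_inj n m hn hm e ▸ h')
    · exact List.mem_append_right _ (D.val_inj n m hn hm e ▸ h')
  · intro h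
    rcases List.mem_append.1 h with h | h
    · exact D.tl_conj h
    · exact (D.q_conj_z hw).trans (D.ql_conj h)

theorem kconj_t_iff (hw : IsConj t (D.val wN)) {g : G} (hg : D.Std g) {p : ℕ} (hp : p ∈ klist) :
    IsConj t (D.kval g p) ↔ p ∈ akl := by
  rcases D.klist_cases hp with ⟨hm, a1, a2⟩ | ⟨m, hm, rfl, a1, a2⟩
  · rw [kval, a1, a2, pow_zero, mul_one, D.conj_t_iff hw (dl_lt hm)]
    simp [akl, List.mem_filter, hm]
  · constructor
    · intro h
      exfalso
      refine D.not_swap_in_class hw h ?_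
      rw [kval, a1, a2, pow_one, mul_inv_rev, inv_eq_of_mul_eq_one_right hg.gg,
        show D.val m * g * t * (g * (D.val m)⁻¹) = D.val m * (g * t * g) * (D.val m)⁻¹ by group,
        hg.gt, D.val_commute (dl_lt hm) (named (by simp)) ((cent_w m (mem_els (dl_lt hm))).2 hm),
        mul_inv_cancel_right]
    · intro h
      have := dl_lt (List.mem_filter.1 h).1
      omega

theorem kconj_z_iff (hw : IsConj t (D.val wN)) {g : G} (hg : D.Std g) {p : ℕ} (hp : p ∈ klist) :
    IsConj (D.val zN) (D.kval g p) ↔ p ∈ bkl := by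
  have h0 : (0 : ℕ) ∈ klist := List.mem_append_left _ gam_facts.2.2.2
  have hbk : p ∈ bkl ↔ kmul p p = 0 ∧ p ≠ 0 ∧ p ∉ akl := by
    simp [bkl, List.mem_filter, hp, and_assoc]
  rw [hbk]
  constructor
  · intro h
    have ho : orderOf (D.kval g p) = 2 := by
      obtain ⟨k, hk⟩ := isConj_iff.1 h
      rw [← hk]
      exact ((MulAut.conj k).orderOf_eq _).trans (D.val_invol (by simp [reps_mem.2.1]))
    refine ⟨D.kval_inj hg (gam_facts.2.1 p hp p hp) h0 ?_, ?_, fun ha => ?_⟩
    · rw [D.kval_mul hg hp hp, D.kval_zero, ← pow_two, ← ho, pow_orderOf_eq_one]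
    · rintro rfl
      rw [D.kval_zero, orderOf_one] at ho
      norm_num at ho
    · exact D.not_conj_z hw (((D.kconj_t_iff hw hg hp).2 ha).trans h.symm)
  · rintro ⟨h1, h2, h3⟩
    have ho : orderOf (D.kval g p) = 2 := by
      refine orderOf_eq_prime ?_ fun e => h2 (D.kval_inj hg hp h0 (e.trans (D.kval_zero g).symm))
      rw [pow_two, ← D.kval_mul hg hp hp, h1, D.kval_zero]
    exact (D.two_classes hw ho).resolve_left fun h => h3 ((D.kconj_t_iff hw hg hp).1 h)

theorem card_pair_t (hw : IsConj t (D.val wN)) : Nat.card (Pair t (D.val zN) t) = 108 := by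
  classical
  rw [← counts.1, cntT]
  set L := ((tN :: wl).product (tl ++ ql)).filter fun p =>
    (List.range 24).any fun i => powN (mulN p.1 p.2) i == tN with hL
  have hnd : L.Nodup := List.Nodup.filter _ (List.Nodup.product
    (List.nodup_cons.2 ⟨fun h => (disjoint_lists.1 _ h).2.2 rfl, wl_facts.2.1⟩) wl_facts.2.2.2)
  have hmem : ∀ p, p ∈ L ↔ p.1 ∈ tN :: wl ∧ p.2 ∈ tl ++ ql ∧
      ∃ i < 24, powN (mulN p.1 p.2) i = tN := by
    intro p
    obtain ⟨x, y⟩ := p
    simp [hL, List.mem_filter, List.pair_mem_product, List.any_eq_true, and_assoc]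
  have hlt : ∀ p ∈ L, p.1 < 576 ∧ p.2 < 576 := by
    intro p hp
    obtain ⟨h1, h2, -⟩ := (hmem p).1 hp
    refine ⟨?_, lt_of_mem (by simp only [List.mem_append] at h2 ⊢; tauto)⟩
    rcases List.mem_cons.1 h1 with h | h
    · rw [h]; exact named (by simp)
    · exact wl_lt h
  have e : {p // p ∈ L} ≃ Pair t (D.val zN) t := Equiv.ofBijective
    (fun p => ⟨(D.val p.1.1, D.val p.1.2), by
      obtain ⟨h1, h2, i, -, hi⟩ := (hmem p.1).1 p.2
      obtain ⟨l1, l2⟩ := hlt p.1 p.2
      refine ⟨(D.conj_t_iff hw l1).2 h1, (D.conj_z_iff hw l2).2 h2, D.val_comm _ l1, D.val_comm _ l2,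
        i, ?_⟩
      have := congrArg D.val hi
      rw [D.val_pow (mulN_spec l1 l2).1, D.val_mul _ _ l1 l2, D.val_tau] at this
      exact this⟩)
    ⟨fun a b h => Subtype.ext (Prod.ext
      (D.val_inj _ _ (hlt _ a.2).1 (hlt _ b.2).1 (congrArg (fun p => p.1.1) h))
      (D.val_inj _ _ (hlt _ a.2).2 (hlt _ b.2).2 (congrArg (fun p => p.1.2) h))),
    fun ⟨⟨u, v⟩, h1, h2, h3, h4, i, hi⟩ => by
      obtain ⟨m, hm, rfl⟩ := D.val_surj u h3
      obtain ⟨n, hn, rfl⟩ := D.val_surj v h4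
      refine ⟨⟨(m, n), (hmem _).2 ⟨(D.conj_t_iff hw hm).1 h1, (D.conj_z_iff hw hn).1 h2, i % 24,
        Nat.mod_lt _ (by norm_num), D.val_inj _ _ (powN_lt (mulN_spec hm hn).1 _) (named (by simp)) ?_⟩⟩,
        rfl⟩
      have h24 : (D.val (mulN m n)) ^ 24 = 1 := by
        rw [← D.val_pow (mulN_spec hm hn).1, exponents.1 _ (mem_els (mulN_spec hm hn).1), D.val_zero]
      rw [D.val_pow (mulN_spec hm hn).1, D.val_tau, ← pow_eq_pow_mod i h24, D.val_mul _ _ hm hn]
      exact hi⟩
  rw [← Nat.card_congr e, Nat.card_eq_fintype_card,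
    Fintype.card_of_subtype L.toFinset (fun x => List.mem_toFinset),
    List.toFinset_card_of_nodup hnd]

theorem card_pair_z (hw : IsConj t (D.val wN)) : Nat.card (Pair t (D.val zN) (D.val zN)) = 27 := by
  classical
  obtain ⟨g, hg⟩ := D.exists_std hw
  rw [← counts.2, cntZ]
  set L := (akl.product bkl).filter fun p =>
    (List.range 24).any fun i => kpow (kmul p.1 p.2) i == zN with hL
  have hnd : L.Nodup := List.Nodup.filter _ (List.Nodup.product klist_facts.2.2.1 klist_facts.2.2.2.1)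
  have hmem : ∀ p, p ∈ L ↔ p.1 ∈ akl ∧ p.2 ∈ bkl ∧ ∃ i < 24, kpow (kmul p.1 p.2) i = zN := by
    intro p
    obtain ⟨x, y⟩ := p
    simp [hL, List.mem_filter, List.pair_mem_product, List.any_eq_true, and_assoc]
  have hk : ∀ p ∈ L, p.1 ∈ klist ∧ p.2 ∈ klist := fun p hp =>
    ⟨klist_facts.2.2.2.2.1 _ ((hmem p).1 hp).1, (List.mem_filter.1 ((hmem p).1 hp).2.1).1⟩
  have hz : D.kval g zN = D.val zN := by
    have hlt : zN < 576 := named (by simp)
    rw [kval, Nat.mod_eq_of_lt hlt, Nat.div_eq_of_lt hlt, pow_zero, mul_one]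
  have e : {p // p ∈ L} ≃ Pair t (D.val zN) (D.val zN) := Equiv.ofBijective
    (fun p => ⟨(D.kval g p.1.1, D.kval g p.1.2), by
      obtain ⟨h1, h2, i, -, hi⟩ := (hmem p.1).1 p.2
      obtain ⟨l1, l2⟩ := hk p.1 p.2
      refine ⟨(D.kconj_t_iff hw hg l1).2 h1, (D.kconj_z_iff hw hg l2).2 h2, D.kval_comm_z hg l1,
        D.kval_comm_z hg l2, i, ?_⟩
      rw [← D.kval_mul hg l1 l2, ← (D.kval_pow hg (gam_facts.2.1 _ l1 _ l2) i).2, hi, hz]⟩)
    ⟨fun a b h => Subtype.ext (Prod.ext
      (D.kval_inj hg (hk _ a.2).1 (hk _ b.2).1 (congrArg (fun p => p.1.1) h))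
      (D.kval_inj hg (hk _ a.2).2 (hk _ b.2).2 (congrArg (fun p => p.1.2) h))),
    fun ⟨⟨u, v⟩, h1, h2, h3, h4, i, hi⟩ => by
      obtain ⟨m, hm, rfl⟩ := D.exists_kval hw hg h3
      obtain ⟨n, hn, rfl⟩ := D.exists_kval hw hg h4
      have hmn := gam_facts.2.1 _ hm _ hn
      refine ⟨⟨(m, n), (hmem _).2 ⟨(D.kconj_t_iff hw hg hm).1 h1, (D.kconj_z_iff hw hg hn).1 h2,
        i % 24, Nat.mod_lt _ (by norm_num),
        D.kval_inj hg (D.kval_pow hg hmn _).1 klist_facts.2.2.2.2.2 ?_⟩⟩, rfl⟩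
      have h24 : (D.kval g (kmul m n)) ^ 24 = 1 := by
        rw [← (D.kval_pow hg hmn 24).2, exponents.2 _ hmn, D.kval_zero]
      rw [(D.kval_pow hg hmn _).2, ← pow_eq_pow_mod i h24, D.kval_mul hg hm hn, hz]
      exact hi⟩
  rw [← Nat.card_congr e, Nat.card_eq_fintype_card,
    Fintype.card_of_subtype L.toFinset (fun x => List.mem_toFinset),
    List.toFinset_card_of_nodup hnd]

/-- The order of the group. -/
theorem card_eq (hw : IsConj t (D.val wN)) : Nat.card G = 25920 := by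
  rw [order_formula D.ord (D.val_invol (by simp [reps_mem.2.1])) (D.not_conj_z hw)
    (fun v hv => D.two_classes hw hv), D.card_cent_z hw, D.card_pair_t hw, D.card_cent,
    D.card_pair_z hw]

end Cen

end CfsgLib.U42
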