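import Cfsg.Agent.Lib.U42.Setup
import Cfsg.Agent.Lib.Transfer.ThompsonTransfer
import Cfsg.Agent.Lib.Involutions.ZStar.Main
import Cfsg.Agent.Lib.Involutions.Isolated

/-!
# Fusion of involutions

Without a subgroup of index two, after twisting the model if necessary, there are exactly two
classes of involutions, represented by `t` and `t w`, and an element exchanging `t` and `w`.
-/

set_option autoImplicit false
set_option linter.unusedSectionVars false
set_option linter.style.haveILetI false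
set_option maxRecDepth 100000

namespace CfsgLib.U42

open Cfsg
open scoped Pointwise

universe u

variable {G : Type u} [Group G] [Finite G] {t : G}

/-- Conjugates of commuting elements commute. -/
theorem conj_comm {h a b : G} (e : a * b = b * a) :
    h * a * h⁻¹ * (h * b * h⁻¹) = h * b * h⁻¹ * (h * a * h⁻¹) := by
  calc h * a * h⁻¹ * (h * b * h⁻¹) = h * (a * b) * h⁻¹ := by group
    _ = h * (b * a) * h⁻¹ := by rw [e]
    _ = _ := by group

namespace Cen

variable (D : Cen t)
include D

/-- The Sylow two-subgroup of the model, in the group. -/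
def sylGrp : Subgroup G where
  carrier := {g | ∃ m ∈ syl, D.val m = g}
  one_mem' := ⟨0, syl_facts.2.2.1, D.val_zero⟩
  mul_mem' := by
    rintro a b ⟨m, hm, rfl⟩ ⟨n, hn, rfl⟩
    exact ⟨mulN m n, syl_mul m hm n hn, D.val_mul m n (syl_lt hm) (syl_lt hn)⟩
  inv_mem' := by
    rintro a ⟨m, hm, rfl⟩
    exact ⟨invN m, syl_facts.2.2.2.2.2.2 m hm, D.val_inv (syl_lt hm)⟩

/-- Its subgroup of index two. -/
def qnGrp : Subgroup G where
  carrier := {g | ∃ m ∈ qn, D.val m = g}
  one_mem' := ⟨0, qn_facts.2.2.1, D.val_zero⟩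
  mul_mem' := by
    rintro a b ⟨m, hm, rfl⟩ ⟨n, hn, rfl⟩
    exact ⟨mulN m n, qn_facts.2.2.2.2.1 m hm n hn, D.val_mul m n (qn_lt hm) (qn_lt hn)⟩
  inv_mem' := by
    rintro a ⟨m, hm, rfl⟩
    exact ⟨invN m, (qn_facts.2.2.2.1 m hm).2, D.val_inv (qn_lt hm)⟩

theorem card_image {l : List ℕ} (hlt : ∀ m ∈ l, m < 576) (hnd : l.Nodup) :
    Nat.card {g : G // ∃ m ∈ l, D.val m = g} = l.length := by
  classical
  have e : {m // m ∈ l} ≃ {g : G // ∃ m ∈ l, D.val m = g} :=
    Equiv.ofBijective (fun m => ⟨D.val m.1, m.1, m.2, rfl⟩)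
      ⟨fun a b h => Subtype.ext (D.val_inj _ _ (hlt _ a.2) (hlt _ b.2) (congrArg Subtype.val h)),
        fun ⟨g, m, hm, e⟩ => ⟨⟨m, hm⟩, Subtype.ext e⟩⟩
  rw [← Nat.card_congr e, Nat.card_eq_fintype_card,
    Fintype.card_of_subtype l.toFinset (fun x => List.mem_toFinset),
    List.toFinset_card_of_nodup hnd]

theorem card_sylGrp : Nat.card (sylGrp D) = 64 :=
  (D.card_image (fun _ h => syl_lt h) syl_facts.2.1).trans syl_facts.1

theorem card_qnGrp : Nat.card (qnGrp D) = 32 :=
  (D.card_image (fun _ h => qn_lt h) qn_facts.2.1).trans qn_facts.1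

theorem card_cent : Nat.card (Subgroup.centralizer ({t} : Set G)) = 576 := by
  have h := D.card_image (l := els) (fun m h => List.mem_range.1 h) List.nodup_range
  rw [List.length_range] at h
  rw [← h]
  exact Nat.card_congr (Equiv.subtypeEquivRight fun g => ⟨fun hg => by
    obtain ⟨m, hm, e⟩ := D.val_surj g (Subgroup.mem_centralizer_singleton_iff.1 hg)
    exact ⟨m, mem_els hm, e⟩, fun ⟨m, hm, e⟩ =>
      Subgroup.mem_centralizer_singleton_iff.2 (e ▸ D.val_comm m (List.mem_range.1 hm))⟩)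

/-- The subgroup of order `64` is a Sylow two-subgroup of the whole group. -/
theorem exists_sylow : ∃ P : Sylow 2 G, (P : Subgroup G) = sylGrp D := by
  haveI : Fact (Nat.Prime 2) := ⟨Nat.prime_two⟩
  have hp : IsPGroup 2 (sylGrp D) := IsPGroup.of_card (n := 6) (by rw [D.card_sylGrp]; norm_num)
  obtain ⟨P, hP⟩ := hp.exists_le_sylow
  refine ⟨P, hP.antisymm' ?_⟩
  by_contra hne
  have hlt : sylGrp D < (P : Subgroup G) := lt_of_le_of_ne hP fun e => hne e.ge
  obtain ⟨g, hg, hgn⟩ := SetLike.exists_of_lt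
    (Group.normalizerCondition_of_isNilpotent (G := (P : Subgroup G))
      (h := P.2.isNilpotent) ((sylGrp D).subgroupOf P) (by
        rw [lt_top_iff_ne_top]
        intro e
        exact hne (Subgroup.subgroupOf_eq_top.1 e)))
  -- the element normalizes, so it fixes the central involution
  have hconj : ∀ m ∈ syl, (g : G) * D.val m * (g : G)⁻¹ ∈ sylGrp D := fun m hm =>
    (Subgroup.mem_normalizer_iff.1 hg ⟨D.val m, hP ⟨m, hm, rfl⟩⟩).1 ⟨m, hm, rfl⟩
  have hconj' : ∀ m ∈ syl, (g : G)⁻¹ * D.val m * (g : G) ∈ sylGrp D := fun m hm => by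
    have h := (Subgroup.mem_normalizer_iff.1 (inv_mem hg) ⟨D.val m, hP ⟨m, hm, rfl⟩⟩).1
      ⟨m, hm, rfl⟩
    simpa [Subgroup.mem_subgroupOf] using h
  obtain ⟨n, hn, hnv⟩ := hconj tN syl_facts.2.2.2.1
  rcases syl_center n hn (fun a ha => D.mul_val_eq (syl_lt hn) (syl_lt ha) (by
      obtain ⟨b, hb, hbv⟩ := hconj' a ha
      rw [hnv, D.val_tau]
      have hc := D.val_comm b (syl_lt hb)
      rw [hbv] at hc
      calc (g : G) * t * (g : G)⁻¹ * D.val a
          = (g : G) * (t * ((g : G)⁻¹ * D.val a * (g : G))) * (g : G)⁻¹ := by group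
        _ = (g : G) * (((g : G)⁻¹ * D.val a * (g : G)) * t) * (g : G)⁻¹ := by rw [hc]
        _ = D.val a * ((g : G) * t * (g : G)⁻¹) := by group)) with e | e
  · rw [e, D.val_zero, D.val_tau, eq_comm, conj_eq_one_iff] at hnv
    have := D.ord
    rw [hnv, orderOf_one] at this
    norm_num at this
  · rw [e, D.val_tau, eq_mul_inv_iff_mul_eq] at hnv
    -- a two-subgroup of the centralizer contains the Sylow subgroup of the model
    set W : Subgroup G := (P : Subgroup G) ⊓ Subgroup.centralizer ({t} : Set G) with hW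
    have hle : sylGrp D ≤ W := le_inf hP (by
      rintro _ ⟨m, hm, rfl⟩
      exact Subgroup.mem_centralizer_singleton_iff.2 (D.val_comm m (syl_lt hm)))
    obtain ⟨k, hk⟩ := IsPGroup.iff_card.1 (P.2.to_le (inf_le_left : W ≤ (P : Subgroup G)))
    have hd : 2 ^ k ∣ 576 := by
      rw [← hk, ← D.card_cent]; exact Subgroup.card_dvd_of_le inf_le_right
    have hk6 : k ≤ 6 := by
      by_contra hk7
      exact absurd ((pow_dvd_pow 2 (by omega : 7 ≤ k)).trans hd) (by norm_num)
    have heq : sylGrp D = W := Subgroup.eq_of_le_of_card_ge hle (by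
      rw [hk, D.card_sylGrp]
      exact le_trans (Nat.pow_le_pow_right (by norm_num) hk6) (by norm_num))
    refine hgn ?_
    rw [Subgroup.mem_subgroupOf, heq]
    exact ⟨g.2, Subgroup.mem_centralizer_singleton_iff.2 hnv.symm⟩

/-- An involution is conjugate to one of the four representatives. -/
theorem invol_fused {v : G} (hv : orderOf v = 2) : IsConj t v ∨ IsConj (D.val wN) v ∨
    IsConj (D.val zN) v ∨ IsConj (D.val (mulN tN viN)) v := by
  haveI : Fact (Nat.Prime 2) := ⟨Nat.prime_two⟩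
  obtain ⟨P, hP⟩ := D.exists_sylow
  obtain ⟨R, hR⟩ := (IsPGroup.of_card (n := 1)
    (show Nat.card (Subgroup.zpowers v) = 2 ^ 1 by rw [Nat.card_zpowers, hv, pow_one])).exists_le_sylow
  obtain ⟨u, hu⟩ := MulAction.exists_smul_eq G R P
  have hw : u * v * u⁻¹ ∈ sylGrp D := by
    have h1 : MulAut.conj u • v ∈ MulAut.conj u • (R : Subgroup G) :=
      Subgroup.smul_mem_pointwise_smul v _ _ (hR (Subgroup.mem_zpowers v))
    rw [← Sylow.coe_subgroup_smul] at h1
    rw [hu, hP] at h1
    exact h1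
  obtain ⟨m, hm, hmv⟩ := hw
  have hc : IsConj (D.val m) v :=
    isConj_iff.2 ⟨u⁻¹, by rw [hmv]; group⟩
  obtain ⟨n, hn, hnv, hcases⟩ := D.invol_val (u := D.val m)
    (by rw [hmv]; exact (MulAut.conj u).orderOf_eq v ▸ hv) (D.val_comm m (syl_lt hm))
  rw [← hnv] at hc
  rcases hcases with rfl | h | h | h
  · rw [D.val_tau] at hc; exact Or.inl hc
  · exact Or.inr (Or.inl ((D.wl_conj h).trans hc))
  · exact Or.inr (Or.inr (Or.inl ((D.tl_conj h).trans hc)))
  · exact Or.inr (Or.inr (Or.inr ((D.ql_conj h).trans hc)))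

/-- Without a subgroup of index two, an involution outside the kernel is fused into it. -/
theorem transfer_fused (hG : ∀ H : Subgroup G, H.index ≠ 2) {m : ℕ}
    (hm : m ∈ tN :: (wl ++ tl ++ ql)) :
    IsConj t (D.val m) ∨ IsConj (D.val (mulN tN viN)) (D.val m) := by
  obtain ⟨P, hP⟩ := D.exists_sylow
  have hle : qnGrp D ≤ (P : Subgroup G) := by
    rw [hP]
    rintro _ ⟨a, ha, rfl⟩
    exact ⟨a, (qn_facts.2.2.2.1 a ha).1, rfl⟩
  have hi : (qnGrp D).relIndex (P : Subgroup G) = 2 := by
    have h := Subgroup.card_mul_index ((qnGrp D).subgroupOf (P : Subgroup G))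
    rw [Nat.card_congr (Subgroup.subgroupOfEquivOfLe hle).toEquiv, D.card_qnGrp, hP,
      D.card_sylGrp] at h
    rw [Subgroup.relIndex, hP]
    omega
  by_contra hno
  obtain ⟨M, -, hM, -⟩ := CfsgLib.Transfer.exists_index_two_of_not_conj_mem P hle hi
    (D.val_invol hm) (fun g ⟨a, ha, hav⟩ => hno (by
      have hc : IsConj (D.val a) (D.val m) :=
        isConj_iff.2 ⟨g⁻¹, by rw [hav]; group⟩
      rcases qn_facts.2.2.2.2.2 a ha (D.val_eq_one (mulN_spec (qn_lt ha) (qn_lt ha)).1 (by
          rw [D.val_mul a a (qn_lt ha) (qn_lt ha), hav, ← pow_two]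
          have := pow_orderOf_eq_one (g * D.val m * g⁻¹)
          rwa [show orderOf (g * D.val m * g⁻¹) = 2 from
            ((MulAut.conj g).orderOf_eq (D.val m)).trans (D.val_invol hm)] at this)) with rfl | rfl | h
      · rw [D.val_zero, isConj_one_right] at hc
        have h2 := D.val_invol hm
        rw [hc, orderOf_one] at h2
        norm_num at h2
      · rw [D.val_tau] at hc; exact Or.inl hc
      · exact Or.inr ((D.ql_conj h).trans hc)))
  exact hG M hM

/-- The involution `t` is conjugate to `w` or to `t w`. -/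
theorem fused (hG : ∀ H : Subgroup G, H.index ≠ 2) :
    IsConj t (D.val wN) ∨ IsConj t (D.val zN) := by
  by_contra hno
  push Not at hno
  have hw : wN ∈ tN :: (wl ++ tl ++ ql) := by simp [reps_mem.1]
  have hq : IsConj (D.val (mulN tN viN)) (D.val wN) :=
    (D.transfer_fused hG hw).resolve_left hno.1
  have hiso : Cfsg.IsIsolatedInvolution t := by
    refine ⟨D.ord, fun g hg => ?_⟩
    have hc : IsConj t (g * t * g⁻¹) := isConj_iff.2 ⟨g, rfl⟩
    obtain ⟨m, hm, hmv, hcases⟩ := D.invol_val (((MulAut.conj g).orderOf_eq t).trans D.ord) hg.eq.symm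
    change D.val m = g * t * g⁻¹ at hmv
    rw [← hmv] at hc ⊢
    rcases hcases with rfl | h | h | h
    · exact D.val_tau
    · exact absurd (hc.trans (D.wl_conj h).symm) hno.1
    · exact absurd (hc.trans (D.tl_conj h).symm) hno.2
    · exact absurd ((hc.trans (D.ql_conj h).symm).trans hq) hno.1
  -- the bit of the model gives a subgroup of index two
  have hO : ∀ m, m < 576 → D.val m ∈ Cfsg.oddCore G → m = 0 := by
    intro m hm ho
    have hodd : ∀ x ∈ Cfsg.oddCore G, Odd (orderOf x) := fun x hx =>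
      (CfsgLib.Base.odd_card_oddCore G).of_dvd_nat (by
        rw [← Subgroup.orderOf_mk x hx]; exact orderOf_dvd_natCard _)
    have hd : orderOf (D.val m) ∣ 576 := by
      rw [← D.card_cent, ← Subgroup.orderOf_mk (D.val m)
        (Subgroup.mem_centralizer_singleton_iff.2 (D.val_comm m hm))]
      exact orderOf_dvd_natCard _
    have hd9 : orderOf (D.val m) ∣ 9 :=
      (Nat.Coprime.pow_right 6 (Nat.coprime_two_right.2 (hodd _ ho))).dvd_of_dvd_mul_left
        (show _ ∣ 2 ^ 6 * 9 from hd)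
    by_contra hne
    obtain ⟨n, hn, hc, h4⟩ := no_odd_normal m (mem_els hm) (odd_order m (mem_els hm)
      (D.val_eq_one (powN_lt hm 9) (by
        rw [D.val_pow hm, orderOf_dvd_iff_pow_eq_one.1 hd9]))) hne
    have hn' : n < 576 := by
      have : ∀ n ∈ [iN, jN, cjN wN iN], n < 576 := by decide +kernel
      exact this n hn
    have hmem : D.val (cmN n m) ∈ Cfsg.oddCore G := by
      rw [D.val_cm hn' hm]
      exact mul_mem (Subgroup.Normal.conj_mem inferInstance _ ho _) (inv_mem ho)
    refine hc (D.val_eq_one (cmN_lt hn' hm) (orderOf_eq_one_iff.1 ?_))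
    refine Nat.Coprime.eq_one_of_dvd ((Nat.Coprime.pow_right 2
      (Nat.coprime_two_right.2 (hodd _ hmem)))) (orderOf_dvd_of_pow_eq_one ?_)
    rw [show (2 : ℕ) ^ 2 = 4 by norm_num, ← D.val_pow (cmN_lt hn' hm), h4, D.val_zero]
  have hdec : ∀ x : G, ∃ a ∈ Cfsg.oddCore G, ∃ m < 576, x = a * D.val m := by
    intro x
    obtain ⟨a, ha, c, hc, rfl⟩ := CfsgLib.Involutions.ZStar.exists_mul_centralizer hiso x
    obtain ⟨m, hm, rfl⟩ := D.val_surj c (Subgroup.mem_centralizer_singleton_iff.1 hc)
    exact ⟨a, ha, m, hm, rfl⟩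
  choose fa hfa fm hfm hfeq using hdec
  have huniq : ∀ x, ∀ a ∈ Cfsg.oddCore G, ∀ m < 576, x = a * D.val m → fm x = m := by
    intro x a ha m hm e
    rw [hfeq x] at e
    have hmem : D.val (fm x) * (D.val m)⁻¹ ∈ Cfsg.oddCore G := by
      have : D.val (fm x) * (D.val m)⁻¹ = (fa x)⁻¹ * a := by
        rw [eq_inv_mul_iff_mul_eq, ← mul_assoc, e, mul_inv_cancel_right]
      rw [this]
      exact mul_mem (inv_mem (hfa x)) ha
    rw [← D.val_inv hm, ← D.val_mul _ _ (hfm x) (invN_lt hm)] at hmem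
    have h := hO _ (mulN_spec (hfm x) (invN_lt hm)).1 hmem
    have h' := congrArg D.val h
    rw [D.val_mul _ _ (hfm x) (invN_lt hm), D.val_inv hm, D.val_zero, mul_inv_eq_one] at h'
    exact D.val_inj _ _ (hfm x) hm h'
  let χ : G →* ℤˣ :=
    { toFun := fun x => (-1) ^ mS (fm x)
      map_one' := by
        rw [huniq 1 1 (one_mem _) 0 (by norm_num) (by rw [D.val_zero, mul_one])]
        rfl
      map_mul' := fun x y => by
        rw [huniq (x * y) (fa x * (D.val (fm x) * fa y * (D.val (fm x))⁻¹))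
          (mul_mem (hfa x) (Subgroup.Normal.conj_mem inferInstance _ (hfa y) _))
          (mulN (fm x) (fm y)) (mulN_spec (hfm x) (hfm y)).1 (by
            rw [D.val_mul _ _ (hfm x) (hfm y)]
            conv_lhs => rw [hfeq x, hfeq y]
            group), (mulN_spec (hfm x) (hfm y)).2, ← pow_add, Int.units_pow_eq_pow_mod_two
              (-1) (mS (fm x) + mS (fm y))] }
  have hsurj : Function.Surjective χ := fun s => by
    rcases Int.units_eq_one_or s with rfl | rfl
    · exact ⟨1, map_one χ⟩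
    · refine ⟨D.val wN, ?_⟩
      show (-1 : ℤˣ) ^ mS (fm (D.val wN)) = -1
      rw [huniq _ 1 (one_mem _) wN (named (by simp)) (one_mul _).symm]
      rfl
  refine hG χ.ker ?_
  rw [Subgroup.index_ker, MonoidHom.range_eq_top.2 hsurj, Subgroup.card_top,
    Nat.card_eq_fintype_card, Fintype.card_units_int]

/-- An element moving `w` to `t` and `t` to another involution of the centralizer. -/
theorem exists_move (hw : IsConj t (D.val wN)) : ∃ h : G, ∃ x : ℕ,
    (x = wN ∨ x = zN) ∧ h * D.val wN * h⁻¹ = t ∧ h * t * h⁻¹ = D.val x := by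
  obtain ⟨h₀, e₀⟩ := isConj_iff.1 hw.symm
  have hwt := D.val_comm wN (named (by simp))
  obtain ⟨a, ha, hav, hcases⟩ := D.invol_val (u := h₀ * t * h₀⁻¹)
    (((MulAut.conj h₀).orderOf_eq t).trans D.ord) (by
      have := conj_comm (h := h₀) hwt.symm
      rwa [e₀] at this)
  -- the image of an element of order three
  obtain ⟨b, hb, hbv⟩ := D.val_surj (h₀ * D.val dN * h₀⁻¹) (by
    have hdw := D.val_commute (named (by simp : dN ∈ _)) (named (by simp : wN ∈ _))
      ((cent_w dN (mem_els (named (by simp)))).2 dl_d.2.2.2.1)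
    have := conj_comm (h := h₀) hdw
    rwa [e₀] at this)
  have h3 : powN b 3 = 0 := D.val_eq_one (powN_lt hb 3) (by
    rw [D.val_pow hb, hbv, conj_pow, ← D.val_pow (named (by simp)), dl_d.2.2.2.2.2.2.2.2.2.2.1,
      D.val_zero, mul_one, mul_inv_cancel])
  have hb0 : b ≠ 0 := fun e => dl_d.2.2.2.2.2.2.2.2.2.2.2.1 (D.val_eq_one (named (by simp)) (by
    rw [e, D.val_zero] at hbv
    exact (conj_eq_one_iff.1 hbv.symm)))
  have hab : mulN b a = mulN a b := D.mul_val_eq hb ha (by
    rw [hav, hbv]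
    calc h₀ * D.val dN * h₀⁻¹ * (h₀ * t * h₀⁻¹) = h₀ * (D.val dN * t) * h₀⁻¹ := by group
      _ = h₀ * (t * D.val dN) * h₀⁻¹ := by rw [D.val_comm _ (named (by simp))]
      _ = _ := by group)
  have key : ∀ x, x < 576 → ∀ n, n < 576 → cjN n x = a → ∃ h : G,
      h * D.val wN * h⁻¹ = t ∧ h * t * h⁻¹ = D.val x := by
    intro x hx n hn e
    refine ⟨(D.val n)⁻¹ * h₀, ?_, ?_⟩
    · rw [mul_inv_rev, inv_inv, show (D.val n)⁻¹ * h₀ * D.val wN * (h₀⁻¹ * D.val n) =
        (D.val n)⁻¹ * (h₀ * D.val wN * h₀⁻¹) * D.val n by group, e₀, mul_assoc,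
        ← D.val_comm n hn, inv_mul_cancel_left]
    · rw [mul_inv_rev, inv_inv, show (D.val n)⁻¹ * h₀ * t * (h₀⁻¹ * D.val n) =
        (D.val n)⁻¹ * (h₀ * t * h₀⁻¹) * D.val n by group, ← hav, ← e, D.val_cj hn hx]
      group
  rcases hcases with rfl | h | h | h
  · exfalso
    rw [D.val_tau] at hav
    have hinj := mul_left_cancel (mul_right_cancel (e₀.trans hav))
    exact (disjoint_lists.1 wN reps_mem.1).2.2 (D.val_inj _ _ (named (by simp)) (named (by simp))
      (hinj.trans D.val_tau.symm))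
  · obtain ⟨n, hn, e⟩ := wl_class a h
    obtain ⟨g, h1, h2⟩ := key wN (named (by simp)) n (List.mem_range.1 hn) e
    exact ⟨g, wN, Or.inl rfl, h1, h2⟩
  · obtain ⟨n, hn, e⟩ := tl_class a h
    obtain ⟨g, h1, h2⟩ := key zN (named (by simp)) n (List.mem_range.1 hn) e
    exact ⟨g, zN, Or.inr rfl, h1, h2⟩
  · exact absurd (ql_no_three a h b (mem_els hb) hab h3) hb0

/-- An element normalizing the centralizer of the pair permutes the diagonal four-group. -/
theorem conj_vi {h : G} {x : ℕ} (hx : x = wN ∨ x = zN) (hw : h * D.val wN * h⁻¹ = t)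
    (ht : h * t * h⁻¹ = D.val x) :
    ∃ v ∈ [viN, vjN, vkN], h * D.val viN * h⁻¹ = D.val v := by
  have key : ∀ a ∈ dl, ∃ b ∈ dl, D.val b = h * D.val a * h⁻¹ := by
    intro a ha
    have haw := D.val_commute (dl_lt ha) (named (by simp : wN ∈ _)) ((cent_w a (mem_els (dl_lt ha))).2 ha)
    have hat := D.val_comm a (dl_lt ha)
    obtain ⟨b, hb, hbv⟩ := D.val_surj (h * D.val a * h⁻¹) (by
      have := conj_comm (h := h) haw
      rwa [hw] at this)
    refine ⟨b, (cent_w b (mem_els hb)).1 (D.mul_val_eq hb (named (by simp)) ?_), hbv⟩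
    have hbx : D.val b * D.val x = D.val x * D.val b := by
      have := conj_comm (h := h) hat
      rw [ht] at this
      rwa [hbv]
    rcases hx with rfl | rfl
    · exact hbx
    · rw [reps_mem.2.2.2, D.val_mul _ _ (named (by simp)) (named (by simp)), D.val_tau,
        ← mul_assoc, D.val_comm b hb, mul_assoc, mul_assoc] at hbx
      exact mul_left_cancel hbx
  obtain ⟨a, ha, b, hb, hab⟩ := vi_comm
  obtain ⟨a', ha', hav⟩ := key a ha
  obtain ⟨b', hb', hbv⟩ := key b hb
  have hv : D.val (cmN a' b') = h * D.val viN * h⁻¹ := by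
    rw [← hab, D.val_cm (dl_lt ha') (dl_lt hb'), D.val_cm (dl_lt ha) (dl_lt hb), hav, hbv]
    group
  have h4 := dl_comm a' ha' b' hb'
  rcases List.mem_cons.1 h4 with e | e
  · exfalso
    rw [e, D.val_zero, eq_comm, conj_eq_one_iff] at hv
    exact absurd (D.val_eq_one (named (by simp)) hv) (by decide +kernel)
  · exact ⟨_, e, hv.symm⟩

/-- Moving `t` to `t w` is impossible. -/
theorem no_three_cycle {h : G} (hw : h * D.val wN * h⁻¹ = t) (ht : h * t * h⁻¹ = D.val zN) :
    False := by
  obtain ⟨v, hv, hvv⟩ := D.conj_vi (Or.inr rfl) hw ht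
  -- adjust so that the first element of the four-group is fixed
  obtain ⟨k, hk, hkv⟩ : ∃ k, k < 576 ∧ cjN k v = viN ∧ cjN k tN = tN ∧ cjN k zN = zN := by
    have : ∀ v ∈ [viN, vjN, vkN], ∃ k ∈ [0, dN, powN dN 2], k < 576 ∧ cjN k v = viN ∧
        cjN k tN = tN ∧ cjN k zN = zN := by decide +kernel
    obtain ⟨k, -, hk⟩ := this v hv
    exact ⟨k, hk⟩
  obtain ⟨hkv, hkt, hkz⟩ := hkv
  have hv' : v < 576 := by
    have : ∀ v ∈ [viN, vjN, vkN], v < 576 := by decide +kernel
    exact this v hv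
  set g := D.val k * h with hg
  set c := MulAut.conj g with hc
  have hcapp : ∀ y, c y = D.val k * (h * y * h⁻¹) * (D.val k)⁻¹ := fun y => by
    rw [hc, MulAut.conj_apply, hg]; group
  have cw : c (D.val wN) = t := by
    rw [hcapp, hw]
    have := D.val_cj hk (named (by simp : tN ∈ _))
    rw [hkt, D.val_tau] at this
    exact this.symm
  have ct : c t = D.val zN := by rw [hcapp, ht, ← D.val_cj hk (named (by simp)), hkz]
  have cv : c (D.val viN) = D.val viN := by rw [hcapp, hvv, ← D.val_cj hk hv', hkv]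
  have hzw : D.val zN = t * D.val wN := by
    rw [reps_mem.2.2.2, D.val_mul _ _ (named (by simp)) (named (by simp)), D.val_tau]
  have cz : c (D.val zN) = D.val wN := by
    rw [hzw, map_mul, cw, ct, hzw, mul_assoc, D.val_comm _ (named (by simp)), ← mul_assoc, D.tt,
      one_mul]
  have cwv : c (D.val (mulN wN viN)) = t * D.val viN := by
    rw [D.val_mul _ _ (named (by simp)) (named (by simp)), map_mul, cw, cv]
  have czv : c (D.val (mulN zN viN)) = D.val (mulN wN viN) := by
    rw [D.val_mul _ _ (named (by simp)) (named (by simp)), map_mul, cz, cv,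
      D.val_mul _ _ (named (by simp)) (named (by simp))]
  have ctv : c (t * D.val viN) = D.val (mulN zN viN) := by
    rw [map_mul, ct, cv, D.val_mul _ _ (named (by simp)) (named (by simp))]
  set e := MulAut.conj (D.val iN) with he
  have eapp : ∀ m, m < 576 → e (D.val m) = D.val (cjN iN m) := fun m hm => by
    rw [he, MulAut.conj_apply, D.val_cj (named (by simp)) hm]
  obtain ⟨f1, f2, f3, f4, f5⟩ := word_facts
  have hlt : ∀ m ∈ [mulN wN viN, mulN zN viN], m < 576 := by decide +kernel
  -- the composite fixes `t` and moves `w` to `w v`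
  have kt : c (e (c (c (e (c t))))) = t := by
    rw [ct, eapp _ (named (by simp)), f2, cwv, ctv, eapp _ (hlt _ (by simp)), f4, cw]
  have kw : c (e (c (c (e (c (D.val wN)))))) = D.val (mulN wN viN) := by
    have et : e t = t := by
      have := eapp tN (named (by simp))
      rwa [f1, D.val_tau] at this
    rw [cw, et, ct, cz,
      eapp _ (named (by simp)), f3, czv]
  obtain ⟨n, hn, hnv⟩ := D.val_surj (g * D.val iN * g * g * D.val iN * g) (by
    simp only [hc, he, MulAut.conj_apply] at kt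
    refine mul_inv_eq_iff_eq_mul.1 (Eq.trans ?_ kt)
    group)
  have hwlt : wN < 576 := named (by simp)
  have hcj : cjN n wN = mulN wN viN := D.val_inj _ _ (cjN_lt hn hwlt) (hlt _ (by simp)) (by
    rw [D.val_cj hn hwlt, hnv]
    simp only [hc, he, MulAut.conj_apply] at kw
    rw [← kw]
    group)
  have hno : ∀ m ∈ els, cjN m wN ∉ tl := by decide +kernel
  exact hno n (mem_els hn) (hcj ▸ f5)

/-- An element exchanging `t` and `w`. -/
theorem exists_swap (hw : IsConj t (D.val wN)) :
    ∃ g : G, g * t * g⁻¹ = D.val wN ∧ g * D.val wN * g⁻¹ = t := by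
  obtain ⟨h, x, hx, h1, h2⟩ := D.exists_move hw
  rcases hx with rfl | rfl
  · exact ⟨h, h2, h1⟩
  · exact (D.no_three_cycle h1 h2).elim

/-- The involution `t` is not conjugate to `t w`. -/
theorem not_conj_z (hw : IsConj t (D.val wN)) : ¬ IsConj t (D.val zN) := by
  intro hz
  obtain ⟨g, hgt, hgw⟩ := D.exists_swap hw
  obtain ⟨k, hk⟩ := isConj_iff.1 hz.symm
  have hzw : D.val zN = t * D.val wN := by
    rw [reps_mem.2.2.2, D.val_mul _ _ (named (by simp)) (named (by simp)), D.val_tau]
  have hwt := D.val_comm wN (named (by simp))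
  -- images in the centralizer
  have hct : t * D.val zN = D.val zN * t := (D.val_comm _ (named (by simp))).symm
  obtain ⟨a, ha, hav, hcases⟩ := D.invol_val (u := k * t * k⁻¹)
    (((MulAut.conj k).orderOf_eq t).trans D.ord) (by
      have := conj_comm (h := k) hct
      rwa [hk] at this)
  obtain ⟨n, hn, hnv⟩ := D.val_surj (k * g * k⁻¹) (by
    have hgz : g * D.val zN * g⁻¹ = D.val zN := by
      rw [hzw]
      calc g * (t * D.val wN) * g⁻¹ = g * t * g⁻¹ * (g * D.val wN * g⁻¹) := by group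
        _ = _ := by rw [hgt, hgw, hwt]
    have := conj_comm (h := k) (mul_inv_eq_iff_eq_mul.1 hgz)
    rwa [hk] at this)
  obtain ⟨b, hb, hbv⟩ := D.val_surj (k * D.val dN * k⁻¹) (by
    have hdz : D.val dN * D.val zN = D.val zN * D.val dN :=
      D.val_commute (named (by simp)) (named (by simp)) (by decide +kernel)
    have := conj_comm (h := k) hdz
    rwa [hk] at this)
  rcases hcases with rfl | h | h | h
  · rw [D.val_tau] at hav
    have := mul_left_cancel (mul_right_cancel (hk.trans hav))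
    rw [hzw, mul_eq_left] at this
    exact absurd (D.val_eq_one (named (by simp)) this) (by decide +kernel)
  · refine tail_not_swapped a (List.mem_append_left _ h) n (mem_els hn) ?_
    refine D.val_inj _ _ (cjN_lt hn ha) (mulN_spec (named (by simp)) ha).1 ?_
    rw [D.val_cj hn ha, D.val_mul _ _ (named (by simp)) ha, hnv, hav, D.val_tau]
    calc k * g * k⁻¹ * (k * t * k⁻¹) * (k * g * k⁻¹)⁻¹ = k * (g * t * g⁻¹) * k⁻¹ := by group
      _ = k * (D.val zN * t) * k⁻¹ := by
        rw [hgt, hzw, mul_assoc t, hwt, ← mul_assoc t t, D.tt, one_mul]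
      _ = k * D.val zN * k⁻¹ * (k * t * k⁻¹) := by group
      _ = t * (k * t * k⁻¹) := by rw [hk]
  · refine tail_not_swapped a (List.mem_append_right _ h) n (mem_els hn) ?_
    refine D.val_inj _ _ (cjN_lt hn ha) (mulN_spec (named (by simp)) ha).1 ?_
    rw [D.val_cj hn ha, D.val_mul _ _ (named (by simp)) ha, hnv, hav, D.val_tau]
    calc k * g * k⁻¹ * (k * t * k⁻¹) * (k * g * k⁻¹)⁻¹ = k * (g * t * g⁻¹) * k⁻¹ := by group
      _ = k * (D.val zN * t) * k⁻¹ := by
        rw [hgt, hzw, mul_assoc t, hwt, ← mul_assoc t t, D.tt, one_mul]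
      _ = k * D.val zN * k⁻¹ * (k * t * k⁻¹) := by group
      _ = t * (k * t * k⁻¹) := by rw [hk]
  · have hd3 : powN b 3 = 0 := D.val_eq_one (powN_lt hb 3) (by
      rw [D.val_pow hb, hbv, conj_pow, ← D.val_pow (named (by simp)),
        dl_d.2.2.2.2.2.2.2.2.2.2.1, D.val_zero, mul_one, mul_inv_cancel])
    have hab : mulN b a = mulN a b := D.mul_val_eq hb ha (by
      rw [hav, hbv]
      calc k * D.val dN * k⁻¹ * (k * t * k⁻¹) = k * (D.val dN * t) * k⁻¹ := by group
        _ = k * (t * D.val dN) * k⁻¹ := by rw [D.val_comm _ (named (by simp))]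
        _ = _ := by group)
    have hb0 := ql_no_three a h b (mem_els hb) hab hd3
    rw [hb0, D.val_zero] at hbv
    exact dl_d.2.2.2.2.2.2.2.2.2.2.2.1 (D.val_eq_one (named (by simp)) (conj_eq_one_iff.1 hbv.symm))

/-- The second class contains the noncentral involutions of the two-core. -/
theorem q_conj_z (hw : IsConj t (D.val wN)) : IsConj (D.val zN) (D.val (mulN tN viN)) := by
  obtain ⟨g, hgt, hgw⟩ := D.exists_swap hw
  obtain ⟨v, hv, hvv⟩ := D.conj_vi (Or.inl rfl) hgw hgt
  have hv' : v < 576 := by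
    have : ∀ v ∈ [viN, vjN, vkN], v < 576 := by decide +kernel
    exact this v hv
  refine ((D.tl_conj (wv_tl v hv).1).trans (isConj_iff.2 ⟨g, ?_⟩).symm)
  rw [D.val_mul _ _ (named (by simp)) (named (by simp)), D.val_tau,
    D.val_mul _ _ (named (by simp)) hv',
    show g * (t * D.val viN) * g⁻¹ = g * t * g⁻¹ * (g * D.val viN * g⁻¹) by group, hgt, hvv]

/-- There are two classes of involutions. -/
theorem two_classes (hw : IsConj t (D.val wN)) {v : G} (hv : orderOf v = 2) :
    IsConj t v ∨ IsConj (D.val zN) v := by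
  rcases D.invol_fused hv with h | h | h | h
  exacts [Or.inl h, Or.inl (hw.trans h), Or.inr h, Or.inr ((D.q_conj_z hw).trans h)]

end Cen

/-- After twisting if necessary, `t` is conjugate to `w`. -/
theorem exists_cen (D : Cen t) (hG : ∀ H : Subgroup G, H.index ≠ 2) :
    ∃ D' : Cen t, IsConj t (D'.val wN) := by
  rcases D.fused hG with h | h
  · exact ⟨D, h⟩
  · exact ⟨D.twist, by rwa [D.twist_wN]⟩

end CfsgLib.U42
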