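import Cfsg.Agent.Lib.U42.Model

/-!
Finite facts about the model.
-/

set_option autoImplicit false
set_option maxRecDepth 100000

namespace CfsgLib.U42

/-- the elements of the model -/
abbrev els : List Nat := List.range 576

/-- an element of the centralizer of the exchange -/
def dEl (a b c d e : Nat) : Nat :=
  mulN (mulN (mulN (mulN (powN tN a) (powN wN b)) (powN viN c)) (powN vjN d)) (powN dN e)

/-- the centralizer of the exchange, as tuples of exponents -/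
def dTup : List (Nat × Nat × Nat × Nat × Nat) :=
  (List.range 2).flatMap fun a => (List.range 2).flatMap fun b => (List.range 2).flatMap fun c =>
    (List.range 2).flatMap fun d => (List.range 3).map fun e => (a, b, c, d, e)

/-- the centralizer of the exchange -/
def dl : List Nat := dTup.map fun p => dEl p.1 p.2.1 p.2.2.1 p.2.2.2.1 p.2.2.2.2

/-- the elementary abelian subgroup of order sixteen -/
def el : List Nat := (dTup.filter fun p => p.2.2.2.2 == 0).map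
  fun p => dEl p.1 p.2.1 p.2.2.1 p.2.2.2.1 0

theorem named_lt : [tN, wN, zN, iN, rN, jN, viN, vjN, vkN, dN, vN].all (fun m => m < 576) = true := by
  decide +kernel

theorem lists_lt : (wl ++ tl ++ ql ++ syl ++ qn ++ dl ++ el).all (fun m => m < 576) = true := by
  decide +kernel

theorem tables_lt : (∀ a ∈ List.range 24, ∀ b ∈ List.range 24, slMul a b < 24) ∧
    (∀ a ∈ List.range 24, slInv a < 24) := by decide +kernel

theorem mk_facts : ∀ s ∈ List.range 2, ∀ a ∈ List.range 24, ∀ b ∈ List.range 24,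
    mk s a b < 576 ∧ mS (mk s a b) = s := by decide +kernel

theorem inv_facts : ∀ m ∈ els, invN m < 576 ∧ mulN m (invN m) = 0 ∧ mulN 0 m = m := by
  decide +kernel

theorem tau_facts : ∀ m ∈ els, mulN m tN = mulN tN m := by decide +kernel

theorem center_facts : ∀ m ∈ els, mulN m wN = mulN wN m → mulN m iN = mulN iN m →
    mulN m rN = mulN rN m → m = 0 ∨ m = tN := by decide +kernel

theorem invol_cases : ∀ m ∈ els, mulN m m = 0 → m = 0 ∨ m = tN ∨ m ∈ wl ∨ m ∈ tl ∨ m ∈ ql := by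
  decide +kernel

theorem invol_lists : ∀ m ∈ tN :: (wl ++ tl ++ ql), mulN m m = 0 ∧ m ≠ 0 := by decide +kernel

theorem disjoint_lists : (∀ m ∈ wl, m ∉ tl ∧ m ∉ ql ∧ m ≠ tN) ∧ (∀ m ∈ tl, m ∉ ql ∧ m ≠ tN) ∧
    (∀ m ∈ ql, m ≠ tN) := by decide +kernel

theorem wl_class : ∀ m ∈ wl, ∃ n ∈ els, cjN n wN = m := by decide +kernel

theorem tl_class : ∀ m ∈ tl, ∃ n ∈ els, cjN n zN = m := by decide +kernel

theorem ql_class : ∀ m ∈ ql, ∃ n ∈ els, cjN n (mulN tN viN) = m := by decide +kernel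

theorem reps_mem : wN ∈ wl ∧ zN ∈ tl ∧ mulN tN viN ∈ ql ∧ zN = mulN tN wN := by decide +kernel

theorem gen_words : ∀ m ∈ els, m = mulN (mulN ((slW.getD (mA m) []).foldl
    (fun x l => mulN x (if l = 2 then iN else rN)) 0) (mulN (mulN wN ((slW.getD (mB m) []).foldl
    (fun x l => mulN x (if l = 2 then iN else rN)) 0)) wN)) (powN wN (mS m)) := by decide +kernel

theorem syl_mul : ∀ a ∈ syl, ∀ b ∈ syl, mulN a b ∈ syl := by decide +kernel

theorem syl_facts : syl.length = 64 ∧ syl.Nodup ∧ 0 ∈ syl ∧ tN ∈ syl ∧ wN ∈ syl ∧ zN ∈ syl ∧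
    (∀ a ∈ syl, invN a ∈ syl) := by decide +kernel

theorem syl_center : ∀ m ∈ syl, (∀ a ∈ syl, mulN m a = mulN a m) → m = 0 ∨ m = tN := by
  decide +kernel

theorem qn_facts : qn.length = 32 ∧ qn.Nodup ∧ 0 ∈ qn ∧ (∀ a ∈ qn, a ∈ syl ∧ invN a ∈ qn) ∧
    (∀ a ∈ qn, ∀ b ∈ qn, mulN a b ∈ qn) ∧
    (∀ a ∈ qn, mulN a a = 0 → a = 0 ∨ a = tN ∨ a ∈ ql) := by decide +kernel

theorem no_odd_normal : ∀ m ∈ els, powN m 3 = 0 → m ≠ 0 → ∃ n ∈ [iN, jN, cjN wN iN],
    cmN n m ≠ 0 ∧ powN (cmN n m) 4 = 0 := by decide +kernel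

theorem odd_order : ∀ m ∈ els, powN m 9 = 0 → powN m 3 = 0 := by decide +kernel

/-! ### The centralizer of the exchange -/

theorem cent_w : ∀ m ∈ els, (mulN m wN = mulN wN m ↔ m ∈ dl) := by decide +kernel

theorem dl_facts : dl.length = 48 ∧ dl.Nodup ∧ el.length = 16 := by decide +kernel

theorem dl_comm : ∀ a ∈ dl, ∀ b ∈ dl, cmN a b ∈ [0, viN, vjN, vkN] := by decide +kernel

theorem vi_comm : ∃ a ∈ dl, ∃ b ∈ dl, cmN a b = viN := by decide +kernel

theorem dl_d : cjN dN viN = vjN ∧ cjN dN vjN = vkN ∧ cjN dN vkN = viN ∧ dN ∈ dl ∧ viN ∈ dl ∧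
    vjN ∈ dl ∧ vkN ∈ dl ∧ tN ∈ dl ∧ wN ∈ dl ∧ zN ∈ dl ∧ powN dN 3 = 0 ∧ dN ≠ 0 ∧
    mulN tN viN ∈ dl := by decide +kernel

/-- the element used against one class of involutions -/
theorem word_facts : cjN iN tN = tN ∧ cjN iN zN = mulN wN viN ∧ cjN iN wN = mulN zN viN ∧
    cjN iN (mulN zN viN) = wN ∧ mulN wN viN ∈ tl := by decide +kernel

theorem ql_no_three : ∀ q ∈ ql, ∀ m ∈ els, mulN m q = mulN q m → powN m 3 = 0 → m = 0 := by
  decide +kernel

theorem tail_not_swapped : ∀ x ∈ wl ++ tl, ∀ m ∈ els, cjN m x ≠ mulN tN x := by decide +kernel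

theorem wv_tl : ∀ v ∈ [viN, vjN, vkN], mulN wN v ∈ tl ∧ mulN zN v ∈ wl := by decide +kernel

theorem line_fix : ∀ b ∈ wl, ∀ c ∈ wl, c ≠ b → mulN c b = mulN b c → ∀ m ∈ els,
    mulN m b = mulN b m → ∀ d, cjN m c = d → d ≠ c → mulN d c = mulN c d → cjN m d ≠ c := by
  intro b hb c hc h1 h2 m hm h3 d hd
  subst hd
  revert b c m
  decide +kernel

theorem swap_in_class : ∀ x ∈ wl, ∀ a ∈ wl, ∀ b ∈ wl, a ≠ b → mulN a b = mulN b a →
    cjN x a ≠ b := by decide +kernel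

theorem invert_d : ∀ m ∈ dl, powN m 3 = 0 → cjN m viN = vkN →
    ∃ v ∈ [0, viN, vjN, vkN], cjN v m = invN dN := by decide +kernel

theorem cent_dv : ∀ m ∈ dl, mulN m dN = mulN dN m → mulN m viN = mulN viN m →
    mulN m vjN = mulN vjN m → m = 0 ∨ m = tN ∨ m = wN ∨ m = zN := by decide +kernel

theorem no_odd_normal_two : ∀ x ∈ [zN, mulN tN viN], ∀ m ∈ els, mulN m x = mulN x m →
    powN m 3 = 0 → m ≠ 0 → ∃ n ∈ els, mulN n x = mulN x n ∧ cmN n m ≠ 0 ∧ cmN n m ≠ x ∧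
    powN (cmN n m) 4 = 0 := by decide +kernel

theorem five : mulN wN (mulN (mulN zN viN) (mulN (mulN zN vjN) (mulN zN vkN))) = tN := by
  decide +kernel

theorem tl_z : ∀ m ∈ wl, mulN m zN = mulN zN m → mulN m zN ∈ tN :: wl → m = wN := by decide +kernel

theorem line_trans : ∀ b ∈ wl, ∀ x ∈ wl, ∀ y ∈ wl, mulN b x = mulN x b → mulN b y = mulN y b →
    mulN x y = mulN y x := by decide +kernel

theorem line_of : ∀ a ∈ wl, ∀ b ∈ wl, lineOf a < 3 ∧ (lineOf a = lineOf b →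
    mulN a b = mulN b a) := by decide +kernel

theorem wl_count : ∀ a ∈ wl, (wl.filter fun b => mulN a b != mulN b a).length = 8 := by
  decide +kernel

theorem wl_facts : wl.length = 12 ∧ wl.Nodup ∧ (tl ++ ql).length = 30 ∧ (tl ++ ql).Nodup := by
  decide +kernel

theorem d_fix : ∀ a ∈ wl, cjN dN a = a ∨
    (cjN dN a ≠ a ∧ cjN dN (cjN dN a) ≠ a ∧ cjN dN (cjN dN a) ≠ cjN dN a ∧
      a ≠ wN ∧ cjN dN a ≠ wN ∧ cjN dN (cjN dN a) ≠ wN ∧
      cjN dN a ∈ wl ∧ cjN dN (cjN dN a) ∈ wl) := by decide +kernel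

theorem d_fixed : (wl.filter fun a => cjN dN a == a).length = 3 ∧ vN ∈ wl ∧ cjN dN vN = vN ∧
    mulN vN wN ≠ mulN wN vN := by decide +kernel

end CfsgLib.U42
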