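import Cfsg.Agent.Lib.U42.Fusion
import Cfsg.Agent.Lib.J1Unique.Odd

/-!
# The centralizer of `t w`

The normal form of an element exchanging `t` and `w`, and the centralizer of `t w`, of order `96`.
-/

set_option autoImplicit false
set_option linter.unusedSectionVars false
set_option linter.style.haveILetI false
set_option maxRecDepth 100000

namespace CfsgLib.U42

open Cfsg

universe u

variable {G : Type u} [Group G] [Finite G] {t : G}

theorem lt_v : ∀ v ∈ [0, viN, vjN, vkN], v < 576 := by decide +kernel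

theorem v_cases : ∀ v ∈ [viN, vjN, vkN], mulN v tN = mulN tN v ∧ mulN v wN = mulN wN v ∧
    mulN zN v < 576 := by decide +kernel

namespace Cen

variable (D : Cen t)
include D

theorem zw : D.val zN = t * D.val wN := by
  rw [reps_mem.2.2.2, D.val_mul _ _ (named (by simp)) (named (by simp)), D.val_tau]

theorem zz : D.val zN * D.val zN = 1 := by
  rw [← pow_two, ← D.val_invol (m := zN) (by simp [reps_mem.2.1]), pow_orderOf_eq_one]

theorem ww : D.val wN * D.val wN = 1 := by
  rw [← pow_two, ← D.val_invol (m := wN) (by simp [reps_mem.1]), pow_orderOf_eq_one]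

/-- A conjugate of `t` commuting with `t` lies in the class of the exchange. -/
theorem mem_wl_of_conj (hw : IsConj t (D.val wN)) {u : G} (hu : IsConj t u)
    (hc : u * t = t * u) (hne : u ≠ t) : ∃ m ∈ wl, D.val m = u := by
  obtain ⟨g, rfl⟩ := isConj_iff.1 hu
  obtain ⟨m, hm, hmv, h | h | h | h⟩ :=
    D.invol_val (u := g * t * g⁻¹) (((MulAut.conj g).orderOf_eq t).trans D.ord) hc
  · exact absurd (by rw [h, D.val_tau] at hmv; exact hmv.symm) hne
  · exact ⟨m, h, hmv⟩
  · refine absurd (hu.trans ?_) (D.not_conj_z hw)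
    rw [← hmv]; exact (D.tl_conj h).symm
  · refine absurd (hu.trans ?_) (D.not_conj_z hw)
    rw [← hmv]; exact ((D.q_conj_z hw).trans (D.ql_conj h)).symm

/-- No element commuting with the product of the exchange and `z` and with a second point of a
line exchanges the other two points. -/
theorem no_line_swap (hw : IsConj t (D.val wN)) {h : G} {v v' : ℕ}
    (hv : v ∈ [viN, vjN, vkN]) (hv' : v' ∈ [viN, vjN, vkN]) (hne : v ≠ v')
    (ht : h * t * h⁻¹ = D.val wN) (hw' : h * D.val wN * h⁻¹ = t)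
    (h1 : h * D.val v * h⁻¹ = D.val v) (h2 : h * D.val v' * h⁻¹ = D.val v') : False := by
  have hlt : ∀ v ∈ [viN, vjN, vkN], v < 576 := fun v hv => lt_v v (List.mem_cons_of_mem _ hv)
  have hwt := D.val_comm wN (named (by simp))
  have hz : h * D.val zN * h⁻¹ = D.val zN := by
    rw [D.zw, show h * (t * D.val wN) * h⁻¹ = h * t * h⁻¹ * (h * D.val wN * h⁻¹) by group, ht, hw',
      hwt]
  have he : ∀ {u : ℕ}, u ∈ [viN, vjN, vkN] → h * D.val u * h⁻¹ = D.val u →
      h * D.val (mulN zN u) * h⁻¹ = D.val (mulN zN u) := fun {u} hu e => by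
    rw [D.val_mul _ _ (named (by simp)) (hlt u hu), show h * (D.val zN * D.val u) * h⁻¹ =
      h * D.val zN * h⁻¹ * (h * D.val u * h⁻¹) by group, hz, e]
  obtain ⟨k, hk⟩ := isConj_iff.1 (hw.trans (D.wl_conj (wv_tl v hv).2)).symm
  have hcomm : ∀ a ∈ [tN, wN, mulN zN v'], mulN a (mulN zN v) = mulN (mulN zN v) a ∧
      a ≠ mulN zN v ∧ a < 576 := by
    have : ∀ v ∈ [viN, vjN, vkN], ∀ v' ∈ [viN, vjN, vkN], v ≠ v' → ∀ a ∈ [tN, wN, mulN zN v'],
        mulN a (mulN zN v) = mulN (mulN zN v) a ∧ a ≠ mulN zN v ∧ a < 576 := by decide +kernel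
    exact this v hv v' hv' hne
  have himg : ∀ a ∈ [tN, wN, mulN zN v'], IsConj t (D.val a) →
      ∃ m ∈ wl, D.val m = k * D.val a * k⁻¹ := fun a ha hca => by
    obtain ⟨c1, c2, c3⟩ := hcomm a ha
    refine D.mem_wl_of_conj hw (hca.trans (isConj_iff.2 ⟨k, rfl⟩)) ?_ fun e => c2 ?_
    · have := conj_comm (h := k) (D.val_commute c3 (v_cases v hv).2.2 c1)
      rwa [hk] at this
    · exact D.val_inj _ _ c3 (v_cases v hv).2.2 (mul_left_cancel (mul_right_cancel (e.trans hk.symm)))
  obtain ⟨b, hb, hbv⟩ := himg (mulN zN v') (by simp) (hw.trans (D.wl_conj (wv_tl v' hv').2))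
  obtain ⟨c, hc, hcv⟩ := himg tN (by simp) (by rw [D.val_tau])
  obtain ⟨d, hd, hdv⟩ := himg wN (by simp) hw
  rw [D.val_tau] at hcv
  obtain ⟨n, hn, hnv⟩ := D.val_surj (k * h * k⁻¹) (by
    have := conj_comm (h := k) (mul_inv_eq_iff_eq_mul.1 (he hv h1))
    rwa [hk] at this)
  have hcd : mulN d c = mulN c d := D.mul_val_eq (wl_lt hd) (wl_lt hc) (by
    rw [hdv, hcv]; exact conj_comm hwt)
  refine line_fix b hb c hc (fun e => ?_) (D.mul_val_eq (wl_lt hc) (wl_lt hb) (by
      rw [hcv, hbv]
      refine conj_comm ?_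
      rw [D.val_comm _ (v_cases v' hv').2.2])) n (mem_els hn) (D.mul_val_eq hn (wl_lt hb) (by
      rw [hnv, hbv]; exact conj_comm (mul_inv_eq_iff_eq_mul.1 (he hv' h2))))
    d (D.val_inj _ _ (cjN_lt hn (wl_lt hc)) (wl_lt hd) ?_) (fun e => ?_) hcd
    (D.val_inj _ _ (cjN_lt hn (wl_lt hd)) (wl_lt hc) ?_)
  · rw [e, hbv] at hcv
    have := mul_left_cancel (mul_right_cancel hcv)
    have hne' : ∀ v ∈ [viN, vjN, vkN], mulN zN v ≠ tN := by decide +kernel
    exact hne' v' hv' (D.val_inj _ _ (v_cases v' hv').2.2 (named (by simp)) (this.trans D.val_tau.symm))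
  · rw [D.val_cj hn (wl_lt hc), hnv, hcv, hdv, ← ht]
    group
  · rw [e, hcv] at hdv
    exact (disjoint_lists.1 wN reps_mem.1).2.2 (D.val_inj _ _ (named (by simp)) (named (by simp))
      ((mul_left_cancel (mul_right_cancel hdv)).symm.trans D.val_tau.symm))
  · rw [D.val_cj hn (wl_lt hd), hnv, hcv, hdv]
    calc k * h * k⁻¹ * (k * D.val wN * k⁻¹) * (k * h * k⁻¹)⁻¹ =
        k * (h * D.val wN * h⁻¹) * k⁻¹ := by group
      _ = _ := by rw [hw']

/-- The normal form of an element exchanging `t` and `w`. -/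
structure Std (g : G) : Prop where
  gg : g * g = 1
  gt : g * t * g = D.val wN
  gw : g * D.val wN * g = t
  gvi : g * D.val viN * g = D.val viN
  gvj : g * D.val vjN * g = D.val vkN
  gd : g * D.val dN * g = (D.val dN)⁻¹

/-- There is an element in normal form. -/
theorem exists_std (hw : IsConj t (D.val wN)) : ∃ g, D.Std g := by
  obtain ⟨g₀, hgt, hgw⟩ := D.exists_swap hw
  obtain ⟨v, hv, hvv⟩ := D.conj_vi (Or.inl rfl) hgw hgt
  obtain ⟨k, -, hk, hkv, hkt, hkw⟩ : ∃ k ∈ [0, dN, powN dN 2], k < 576 ∧ cjN k v = viN ∧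
      cjN k tN = tN ∧ cjN k wN = wN := by
    have : ∀ v ∈ [viN, vjN, vkN], ∃ k ∈ [0, dN, powN dN 2], k < 576 ∧ cjN k v = viN ∧
        cjN k tN = tN ∧ cjN k wN = wN := by decide +kernel
    exact this v hv
  set g₁ := D.val k * g₀ with hg₁
  have app : ∀ {a b : ℕ}, a < 576 → cjN k a = b → ∀ y, g₀ * y * g₀⁻¹ = D.val a →
      g₁ * y * g₁⁻¹ = D.val b := fun {a b} ha hab y hy => by
    rw [← hab, D.val_cj hk ha, ← hy, hg₁]; group
  have h1t : g₁ * t * g₁⁻¹ = D.val wN := app (named (by simp)) hkw t hgt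
  have h1w : g₁ * D.val wN * g₁⁻¹ = t :=
    (app (named (by simp)) hkt _ (hgw.trans D.val_tau.symm)).trans D.val_tau
  have h1i : g₁ * D.val viN * g₁⁻¹ = D.val viN :=
    app (lt_v v (List.mem_cons_of_mem _ hv)) hkv _ hvv
  have hdt := D.val_comm dN (named (by simp))
  have hdw := D.val_commute (named (by simp : dN ∈ _)) (named (by simp : wN ∈ _))
    ((cent_w dN (mem_els (named (by simp)))).2 dl_d.2.2.2.1)
  have hdi : D.val dN * D.val viN * (D.val dN)⁻¹ = D.val vjN := by
    rw [← D.val_cj (named (by simp)) (named (by simp)), dl_d.1]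
  obtain ⟨v', hv', hvv'⟩ := D.conj_vi (h := g₁ * D.val dN) (Or.inl rfl)
    (by rw [mul_inv_rev, show g₁ * D.val dN * D.val wN * ((D.val dN)⁻¹ * g₁⁻¹) =
      g₁ * (D.val dN * D.val wN * (D.val dN)⁻¹) * g₁⁻¹ by group, hdw, mul_inv_cancel_right, h1w])
    (by rw [mul_inv_rev, show g₁ * D.val dN * t * ((D.val dN)⁻¹ * g₁⁻¹) =
      g₁ * (D.val dN * t * (D.val dN)⁻¹) * g₁⁻¹ by group, hdt, mul_inv_cancel_right, h1t])
  have h1j : g₁ * D.val vjN * g₁⁻¹ = D.val v' := by rw [← hvv', ← hdi]; group
  have hij : viN ≠ vjN ∧ mulN viN vkN = vjN ∧ mulN viN vjN = vkN := by decide +kernel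
  have h1jk : g₁ * D.val vjN * g₁⁻¹ = D.val vkN := by
    simp only [List.mem_cons, List.not_mem_nil, or_false] at hv'
    rcases hv' with rfl | rfl | rfl
    · exfalso
      exact hij.1 (D.val_inj _ _ (named (by simp)) (named (by simp))
        (mul_left_cancel (mul_right_cancel (h1i.trans h1j.symm))))
    · exact (D.no_line_swap hw (v := viN) (v' := vjN) (by simp) (by simp) hij.1 h1t h1w h1i h1j).elim
    · exact h1j
  -- the image of the element of order three
  have key : ∀ a, a < 576 → D.val a * t = t * D.val a → D.val a * D.val wN = D.val wN * D.val a →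
      ∃ b ∈ dl, D.val b = g₁ * D.val a * g₁⁻¹ := by
    intro a ha e1 e2
    obtain ⟨b, hb, hbv⟩ := D.val_surj (g₁ * D.val a * g₁⁻¹) (by
      have := conj_comm (h := g₁) e2
      rwa [h1w] at this)
    refine ⟨b, (cent_w b (mem_els hb)).1 (D.mul_val_eq hb (named (by simp)) ?_), hbv⟩
    have := conj_comm (h := g₁) e1
    rw [h1t] at this
    rwa [hbv]
  obtain ⟨b, hb, hbv⟩ := key dN (named (by simp)) hdt hdw
  have hb3 : powN b 3 = 0 := D.val_eq_one (powN_lt (dl_lt hb) 3) (by
    rw [D.val_pow (dl_lt hb), hbv, conj_pow, ← D.val_pow (named (by simp)),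
      dl_d.2.2.2.2.2.2.2.2.2.2.1, D.val_zero, mul_one, mul_inv_cancel])
  obtain ⟨a, ha, hav⟩ := invert_d b hb hb3 (D.val_inj _ _ (cjN_lt (dl_lt hb) (named (by simp)))
    (named (by simp)) (by
      rw [D.val_cj (dl_lt hb) (named (by simp)), hbv, ← h1jk, ← hdi]
      conv_lhs => rw [← h1i]
      group))
  have ha' := lt_v a ha
  have hafix : cjN a tN = tN ∧ cjN a wN = wN ∧ cjN a viN = viN ∧ cjN a vkN = vkN := by
    have : ∀ a ∈ [0, viN, vjN, vkN], cjN a tN = tN ∧ cjN a wN = wN ∧ cjN a viN = viN ∧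
        cjN a vkN = vkN := by decide +kernel
    exact this a ha
  set g₂ := D.val a * g₁ with hg₂
  have app2 : ∀ {m n : ℕ}, m < 576 → cjN a m = n → ∀ y, g₁ * y * g₁⁻¹ = D.val m →
      g₂ * y * g₂⁻¹ = D.val n := fun {m n} hm hn y hy => by
    rw [← hn, D.val_cj ha' hm, ← hy, hg₂]; group
  have h2t : g₂ * t * g₂⁻¹ = D.val wN := app2 (named (by simp)) hafix.2.1 t h1t
  have h2w : g₂ * D.val wN * g₂⁻¹ = t :=
    (app2 (named (by simp)) hafix.1 _ (h1w.trans D.val_tau.symm)).trans D.val_tau
  have h2i : g₂ * D.val viN * g₂⁻¹ = D.val viN := app2 (named (by simp)) hafix.2.2.1 _ h1i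
  have h2j : g₂ * D.val vjN * g₂⁻¹ = D.val vkN := app2 (named (by simp)) hafix.2.2.2 _ h1jk
  have h2d : g₂ * D.val dN * g₂⁻¹ = (D.val dN)⁻¹ := by
    rw [← D.val_inv (named (by simp))]
    exact app2 (dl_lt hb) hav _ hbv.symm
  have h2k : g₂ * D.val vkN * g₂⁻¹ = D.val vjN := by
    rw [← hij.2.2, D.val_mul _ _ (named (by simp)) (named (by simp)),
      show g₂ * (D.val viN * D.val vjN) * g₂⁻¹ = g₂ * D.val viN * g₂⁻¹ *
        (g₂ * D.val vjN * g₂⁻¹) by group, h2i, h2j,
      ← D.val_mul _ _ (named (by simp)) (named (by simp)), hij.2.1]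
  -- the square
  obtain ⟨m, hm, hmv⟩ := D.val_surj (g₂ * g₂) (mul_inv_eq_iff_eq_mul.1 (by
    rw [mul_inv_rev, show g₂ * g₂ * t * (g₂⁻¹ * g₂⁻¹) = g₂ * (g₂ * t * g₂⁻¹) * g₂⁻¹ by group,
      h2t, h2w]))
  have hmc : ∀ x, x < 576 → g₂ * (g₂ * D.val x * g₂⁻¹) * g₂⁻¹ = D.val x →
      mulN m x = mulN x m := fun x hx e => D.mul_val_eq hm hx (by
    rw [hmv]
    refine mul_inv_eq_iff_eq_mul.1 ?_
    rw [mul_inv_rev]
    calc g₂ * g₂ * D.val x * (g₂⁻¹ * g₂⁻¹) = g₂ * (g₂ * D.val x * g₂⁻¹) * g₂⁻¹ := by group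
      _ = _ := e)
  have hmdl : m ∈ dl := (cent_w m (mem_els hm)).1 (hmc _ (named (by simp)) (by rw [h2w, h2t]))
  have hm4 := cent_dv m hmdl
    (hmc _ (named (by simp)) (by rw [h2d, ← inv_inv (g₂ * _ * _), show (g₂ * (D.val dN)⁻¹ * g₂⁻¹)⁻¹ =
      g₂ * D.val dN * g₂⁻¹ by group, h2d, inv_inv]))
    (hmc _ (named (by simp)) (by rw [h2i, h2i]))
    (hmc _ (named (by simp)) (by rw [h2j, h2k]))
  have hfix : g₂ * D.val m * g₂⁻¹ = D.val m := by rw [hmv]; group
  have hwt_ne : D.val wN ≠ t := fun e => (disjoint_lists.1 wN reps_mem.1).2.2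
    (D.val_inj _ _ (named (by simp)) (named (by simp)) (e.trans D.val_tau.symm))
  have mk : ∀ g, g * g = 1 → g * t * g⁻¹ = D.val wN → g * D.val wN * g⁻¹ = t →
      g * D.val viN * g⁻¹ = D.val viN → g * D.val vjN * g⁻¹ = D.val vkN →
      g * D.val dN * g⁻¹ = (D.val dN)⁻¹ → ∃ g, D.Std g := fun g e a b c d f => by
    have hi : g⁻¹ = g := inv_eq_of_mul_eq_one_right e
    rw [hi] at a b c d f
    exact ⟨g, ⟨e, a, b, c, d, f⟩⟩
  rcases hm4 with rfl | rfl | rfl | rfl
  · exact mk g₂ (hmv.symm.trans D.val_zero) h2t h2w h2i h2j h2d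
  · exact absurd (by rwa [D.val_tau, h2t] at hfix) hwt_ne
  · exact absurd (by rw [h2w] at hfix; exact hfix.symm) hwt_ne
  · have hwt := D.val_comm wN (named (by simp))
    have tc : ∀ x, x < 576 → g₂ * t * D.val x * (g₂ * t)⁻¹ = g₂ * D.val x * g₂⁻¹ := fun x hx => by
      rw [mul_inv_rev, D.tinv, show g₂ * t * D.val x * (t * g₂⁻¹) = g₂ * (t * D.val x * t) * g₂⁻¹ by
        group, ← D.val_comm x hx, mul_assoc (D.val x), D.tt, mul_one]
    refine mk (g₂ * t) ?_ ?_ ((tc _ (named (by simp))).trans h2w)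
      ((tc _ (named (by simp))).trans h2i) ((tc _ (named (by simp))).trans h2j)
      ((tc _ (named (by simp))).trans h2d)
    · rw [show g₂ * t * (g₂ * t) = g₂ * t * g₂⁻¹ * (g₂ * g₂) * t by group, h2t, ← hmv, D.zw,
        ← mul_assoc (D.val wN), hwt, mul_assoc t, D.ww, mul_one, D.tt]
    · have := tc tN (named (by simp))
      rw [D.val_tau] at this
      exact this.trans h2t

/-- No conjugate of `t` exchanges `t` and `w`. -/
theorem not_swap_in_class (hw : IsConj t (D.val wN)) {x : G} (hx : IsConj t x)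
    (hxt : x * t * x⁻¹ = D.val wN) : False := by
  obtain ⟨y, rfl⟩ := isConj_iff.1 hx
  set x := y * t * y⁻¹ with hxdef
  have hxx : x * x = 1 := by
    rw [hxdef, show y * t * y⁻¹ * (y * t * y⁻¹) = y * (t * t) * y⁻¹ by group, D.tt]; group
  have hxi : x⁻¹ = x := inv_eq_of_mul_eq_one_right hxx
  have hxw : x * D.val wN * x⁻¹ = t := by
    rw [← hxt, hxi]
    calc x * (x * t * x) * x = x * x * t * (x * x) := by group
      _ = t := by rw [hxx, one_mul, mul_one]
  -- a fixed element of the four-group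
  obtain ⟨v, hv, hvv⟩ : ∃ v ∈ [viN, vjN, vkN], x * D.val v * x⁻¹ = D.val v := by
    obtain ⟨v₁, hv₁, hvv₁⟩ := D.conj_vi (Or.inl rfl) hxw hxt
    have hback : x * D.val v₁ * x⁻¹ = D.val viN := by
      rw [← hvv₁, hxi]
      calc x * (x * D.val viN * x) * x = x * x * D.val viN * (x * x) := by group
        _ = _ := by rw [hxx, one_mul, mul_one]
    have hprod : x * (D.val viN * D.val v₁) * x⁻¹ = D.val v₁ * D.val viN := by
      rw [show x * (D.val viN * D.val v₁) * x⁻¹ = x * D.val viN * x⁻¹ * (x * D.val v₁ * x⁻¹) by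
        group, hvv₁, hback]
    simp only [List.mem_cons, List.not_mem_nil, or_false] at hv₁
    rcases hv₁ with rfl | rfl | rfl
    · exact ⟨_, by simp, hvv₁⟩
    · refine ⟨vkN, by simp, ?_⟩
      rwa [← D.val_mul _ _ (named (by simp)) (named (by simp)),
        ← D.val_mul _ _ (named (by simp)) (named (by simp)), show mulN viN vjN = vkN by decide +kernel,
        show mulN vjN viN = vkN by decide +kernel] at hprod
    · refine ⟨vjN, by simp, ?_⟩
      rwa [← D.val_mul _ _ (named (by simp)) (named (by simp)),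
        ← D.val_mul _ _ (named (by simp)) (named (by simp)), show mulN viN vkN = vjN by decide +kernel,
        show mulN vkN viN = vjN by decide +kernel] at hprod
  have hv' := lt_v v (List.mem_cons_of_mem _ hv)
  have hwt := D.val_comm wN (named (by simp))
  have hxe : x * D.val (mulN zN v) = D.val (mulN zN v) * x := mul_inv_eq_iff_eq_mul.1 (by
    rw [D.val_mul _ _ (named (by simp)) hv', show x * (D.val zN * D.val v) * x⁻¹ =
      x * D.val zN * x⁻¹ * (x * D.val v * x⁻¹) by group, hvv, D.zw,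
      show x * (t * D.val wN) * x⁻¹ = x * t * x⁻¹ * (x * D.val wN * x⁻¹) by group, hxt, hxw, hwt])
  obtain ⟨k, hk⟩ := isConj_iff.1 (hw.trans (D.wl_conj (wv_tl v hv).2)).symm
  have hA : ∀ u, IsConj t u → u * D.val (mulN zN v) = D.val (mulN zN v) * u →
      u ≠ D.val (mulN zN v) → ∃ m ∈ wl, D.val m = k * u * k⁻¹ := fun u hu hc hne => by
    refine D.mem_wl_of_conj hw (hu.trans (isConj_iff.2 ⟨k, rfl⟩)) ?_ fun e =>
      hne (mul_left_cancel (mul_right_cancel (e.trans hk.symm)))
    have := conj_comm (h := k) hc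
    rwa [hk] at this
  have hfacts : ∀ v ∈ [viN, vjN, vkN], mulN zN v ≠ tN ∧ mulN zN v ≠ wN ∧
      mulN wN (mulN zN v) = mulN (mulN zN v) wN := by decide +kernel
  obtain ⟨f1, f2, f3⟩ := hfacts v hv
  have he := (v_cases v hv).2.2
  obtain ⟨a, ha, hav⟩ := hA t (IsConj.refl t) (D.val_comm _ he).symm
    fun e => f1 (D.val_inj _ _ he (named (by simp)) (e.symm.trans D.val_tau.symm))
  obtain ⟨b, hb, hbv⟩ := hA (D.val wN) hw (D.val_commute (named (by simp)) he f3)
    fun e => f2 (D.val_inj _ _ he (named (by simp)) e.symm)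
  obtain ⟨c, hc, hcv⟩ := hA x (isConj_iff.2 ⟨y, rfl⟩) hxe fun e => by
    rw [e] at hxt
    rw [mul_inv_eq_iff_eq_mul.2 (D.val_comm _ he)] at hxt
    exact (disjoint_lists.1 wN reps_mem.1).2.2
      (D.val_inj _ _ (named (by simp)) (named (by simp)) (hxt.symm.trans D.val_tau.symm))
  refine swap_in_class c hc a ha b hb (fun e => ?_) (D.mul_val_eq (wl_lt ha) (wl_lt hb) (by
    rw [hav, hbv]; exact conj_comm hwt.symm)) (D.val_inj _ _ (cjN_lt (wl_lt hc) (wl_lt ha)) (wl_lt hb)
    (by rw [D.val_cj (wl_lt hc) (wl_lt ha), hcv, hav, hbv, ← hxt]; group))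
  rw [e, hbv] at hav
  exact (disjoint_lists.1 wN reps_mem.1).2.2 (D.val_inj _ _ (named (by simp)) (named (by simp))
    ((mul_left_cancel (mul_right_cancel hav)).trans D.val_tau.symm))

/-- An element of the centralizer of `t w` fixes or exchanges `t` and `w`. -/
theorem conj_t_of_commute_z (hw : IsConj t (D.val wN)) {k : G}
    (hk : k * D.val zN = D.val zN * k) : k * t * k⁻¹ = t ∨ k * t * k⁻¹ = D.val wN := by
  classical
  set z := D.val zN with hzdef
  have hzo : orderOf z = 2 := D.val_invol (by simp [reps_mem.2.1])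
  have hz2 : z * z = 1 := D.zz
  have hwt := D.val_comm wN (named (by simp))
  have hzt : z * t = D.val wN := by
    rw [hzdef, D.val_comm _ (named (by simp)), D.zw, ← mul_assoc, D.tt, one_mul]
  have htz : t * z = z * t := by rw [hzdef]; exact (D.val_comm _ (named (by simp))).symm
  set K := Subgroup.centralizer ({z} : Set G) with hK
  have memK : ∀ {x : G}, x * z = z * x → x ∈ K := fun h => Subgroup.mem_centralizer_singleton_iff.2 h
  have Kmem : ∀ x : K, (x : G) * z = z * x := fun x => Subgroup.mem_centralizer_singleton_iff.1 x.2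
  set zK : K := ⟨z, memK rfl⟩ with hzK
  set Z := Subgroup.zpowers zK with hZ
  have memZ : ∀ {x : K}, x ∈ Z → (x : G) = 1 ∨ (x : G) = z := by
    rintro x ⟨i, rfl⟩
    show ((zK ^ i : K) : G) = 1 ∨ _
    rw [Subgroup.coe_zpow, ← zpow_mod_orderOf, show ((zK : K) : G) = z from rfl, hzo]
    rcases Int.emod_two_eq_zero_or_one i with e | e <;> rw [show (((2 : ℕ) : ℤ)) = 2 from rfl, e]
    · exact Or.inl (zpow_zero _)
    · exact Or.inr (zpow_one _)
  have Zmem : ∀ {x : K}, (x : G) = 1 ∨ (x : G) = z → x ∈ Z := by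
    rintro x (e | e)
    · rw [show x = 1 from Subtype.ext e]; exact one_mem _
    · rw [show x = zK from Subtype.ext e]; exact Subgroup.mem_zpowers _
  haveI : Z.Normal := ⟨fun n hn y => by
    have : y * n * y⁻¹ = n := Subtype.ext (by
      rcases memZ hn with e | e
      · simp [e]
      · simp only [Subgroup.coe_mul, Subgroup.coe_inv, e, Kmem y, mul_inv_cancel_right])
    rwa [this]⟩
  let π := QuotientGroup.mk' Z
  have πeq : ∀ {x y : K}, π x = π y → (x : G) = y ∨ (x : G) = y * z := fun {x y} e => by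
    rcases memZ (QuotientGroup.eq.1 (Eq.symm (show (x : K ⧸ Z) = y from e))) with h | h
    · rw [Subgroup.coe_mul, Subgroup.coe_inv, inv_mul_eq_one] at h
      exact Or.inl h.symm
    · rw [Subgroup.coe_mul, Subgroup.coe_inv, inv_mul_eq_iff_eq_mul] at h
      exact Or.inr h
  set tK : K := ⟨t, memK htz⟩ with htK
  have hz_ne : z ≠ 1 := fun e => by rw [e, orderOf_one] at hzo; norm_num at hzo
  have hw1 : D.val wN ≠ 1 := fun e => by
    have := D.val_invol (m := wN) (by simp [reps_mem.1])
    rw [e, orderOf_one] at this; norm_num at this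
  have hτ : orderOf (π tK) = 2 := by
    refine orderOf_eq_prime (by rw [← map_pow]; simp [pow_two, htK, Subtype.ext_iff, D.tt]
      <;> exact (QuotientGroup.eq_one_iff _).2 (Zmem (Or.inl (by simp [D.tt])))) ?_
    intro e
    rcases memZ ((QuotientGroup.eq_one_iff tK).1 e) with h | h
    · have := D.ord
      rw [show t = 1 from h, orderOf_one] at this; norm_num at this
    · refine hw1 ?_
      rw [← hzt, show z = t from h.symm, D.tt]
  -- an isolated involution of the quotient
  have hiso : Cfsg.IsIsolatedInvolution (π tK) := by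
    refine ⟨hτ, fun q hq => ?_⟩
    obtain ⟨y, rfl⟩ := QuotientGroup.mk'_surjective Z q
    have hcomm : π (tK * (y * tK * y⁻¹)) = π ((y * tK * y⁻¹) * tK) := by
      simp only [map_mul, map_inv]; exact hq.eq
    set x := (y : G) * t * (y : G)⁻¹ with hx
    have hxA : IsConj t x := isConj_iff.2 ⟨_, rfl⟩
    have hgoal : x = t ∨ x = D.val wN := by
      rcases πeq hcomm with h | h
      · simp only [Subgroup.coe_mul, Subgroup.coe_inv, htK, ← hx] at h
        by_cases hxt : x = t
        · exact Or.inl hxt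
        obtain ⟨m, hm, hmv⟩ := D.mem_wl_of_conj hw hxA h.symm hxt
        right
        have hxz : x * z = z * x := by
          rw [hx]
          have := conj_comm (h := (y : G)) htz
          rwa [mul_inv_eq_iff_eq_mul.2 (Kmem y)] at this
        have hxzA : IsConj t (x * z) := by
          refine hw.trans (isConj_iff.2 ⟨y, ?_⟩)
          rw [hx, ← hzt, ← htz, show (y : G) * (t * z) * (y : G)⁻¹ =
            (y : G) * t * (y : G)⁻¹ * ((y : G) * z * (y : G)⁻¹) by group,
            mul_inv_eq_iff_eq_mul.2 (Kmem y)]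
        have hmz : mulN m zN = mulN zN m := D.mul_val_eq (wl_lt hm) (named (by simp)) (by
          rw [hmv, ← hzdef, hxz])
        have hin : mulN m zN ∈ tN :: wl := by
          have hval : D.val (mulN m zN) = x * z := by
            rw [D.val_mul _ _ (wl_lt hm) (named (by simp)), hmv]
          by_cases hxz' : x * z = t
          · rw [D.val_inj (mulN m zN) tN (mulN_spec (wl_lt hm) (named (by simp))).1
              (named (by simp)) (by rw [hval, hxz', D.val_tau])]
            exact List.mem_cons_self ..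
          · obtain ⟨m', hm', hmv'⟩ := D.mem_wl_of_conj hw hxzA (by
              rw [mul_assoc, ← htz, ← mul_assoc, ← h, mul_assoc]) hxz'
            rw [D.val_inj (mulN m zN) m' (mulN_spec (wl_lt hm) (named (by simp))).1 (wl_lt hm')
              (by rw [hval, hmv'])]
            exact List.mem_cons_of_mem _ hm'
        rw [← hmv, tl_z m hm hmz hin]
      · exfalso
        simp only [Subgroup.coe_mul, Subgroup.coe_inv, htK, ← hx] at h
        -- `t x = x t z`, so `x` exchanges `t` and `w`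
        refine D.not_swap_in_class hw hxA ?_
        have hxx : x * x = 1 := by
          rw [hx, show (y : G) * t * (y : G)⁻¹ * ((y : G) * t * (y : G)⁻¹) =
            (y : G) * (t * t) * (y : G)⁻¹ by group, D.tt]; group
        have hxz : z * x = x * z := by
          rw [hx]
          have := conj_comm (h := (y : G)) htz
          rw [mul_inv_eq_iff_eq_mul.2 (Kmem y)] at this
          exact this.symm
        rw [inv_eq_of_mul_eq_one_right hxx, mul_assoc, h, mul_assoc x t z, htz, hzt, ← mul_assoc,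
          hxx, one_mul]
    rcases hgoal with e | e
    · rw [← map_inv, ← map_mul, ← map_mul]
      exact congrArg π (Subtype.ext e)
    · rw [← map_inv, ← map_mul, ← map_mul]
      refine QuotientGroup.eq.2 (Zmem (Or.inr ?_))
      simp only [Subgroup.coe_mul, Subgroup.coe_inv, ← hx, e, htK]
      rw [← hzt, mul_inv_rev, D.tinv, inv_eq_of_mul_eq_one_right hz2, htz, mul_assoc, D.tt, mul_one]
  -- the quotient has trivial odd core
  have hO : Cfsg.oddCore (K ⧸ Z) = ⊥ := by
    have hodd : Odd (Nat.card (Cfsg.oddCore (K ⧸ Z))) := CfsgLib.Base.odd_card_oddCore _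
    set n := Nat.card (Cfsg.oddCore (K ⧸ Z)) with hn
    have hnO : ∀ q ∈ Cfsg.oddCore (K ⧸ Z), q ^ n = 1 := fun q hq =>
      congrArg Subtype.val (pow_card_eq_one' (x := (⟨q, hq⟩ : Cfsg.oddCore (K ⧸ Z))))
    have hzn : z ^ n = z := by
      obtain ⟨j, hj⟩ := hodd
      rw [hj, pow_succ, pow_mul, pow_two, hz2, one_pow, one_mul]
    have hlist : ∀ a ∈ [tN, wN, mulN zN viN, mulN zN vjN, mulN zN vkN], a < 576 ∧
        a ∈ tN :: wl ∧ mulN a zN = mulN zN a := by decide +kernel
    have hfix : ∀ a ∈ [tN, wN, mulN zN viN, mulN zN vjN, mulN zN vkN], ∀ (hmem : D.val a ∈ K),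
        ∀ q ∈ Cfsg.oddCore (K ⧸ Z), π ⟨D.val a, hmem⟩ * q * π ⟨D.val a, hmem⟩ = q → q = 1 := by
      intro a ha hmem q hq hfq
      obtain ⟨ha', hacl, hacz⟩ := hlist a ha
      obtain ⟨b₀, hb₀⟩ := QuotientGroup.mk'_surjective Z q
      obtain ⟨b, hb, hbn⟩ : ∃ b : K, π b = q ∧ (b : G) ^ n = 1 := by
        have h1 : π (b₀ ^ n) = 1 := by rw [map_pow, show π b₀ = q from hb₀, hnO q hq]
        rcases memZ ((QuotientGroup.eq_one_iff (b₀ ^ n)).1 h1) with h | h
        · exact ⟨b₀, hb₀, by rw [← Subgroup.coe_pow]; exact h⟩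
        · refine ⟨b₀ * zK, ?_, ?_⟩
          · rw [map_mul, show π zK = 1 from (QuotientGroup.eq_one_iff zK).2 (Subgroup.mem_zpowers _),
              mul_one]; exact hb₀
          · rw [Subgroup.coe_mul, show ((zK : K) : G) = z from rfl,
              (show Commute (b₀ : G) z from Kmem b₀).mul_pow, hzn, ← Subgroup.coe_pow, h, hz2]
      have haa : D.val a * D.val a = 1 := by
        rw [← pow_two, ← D.val_invol (m := a) (by
          simp only [List.mem_cons] at hacl
          rcases hacl with h | h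
          · simp [h]
          · simp [h]), pow_orderOf_eq_one]
      have hai : (D.val a)⁻¹ = D.val a := inv_eq_of_mul_eq_one_right haa
      -- the lift commutes
      have hba : (b : G) * D.val a = D.val a * b := by
        have h1 : π (⟨D.val a, hmem⟩ * b * ⟨D.val a, hmem⟩) = π b := by
          rw [map_mul, map_mul, hb]; exact hfq
        have hp : (D.val a * (b : G) * D.val a) ^ n = 1 := by
          have := conj_pow (i := n) (a := D.val a) (b := (b : G))
          rw [hai, hbn, mul_one, haa] at this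
          exact this
        rcases πeq h1 with h | h
        · simp only [Subgroup.coe_mul] at h
          calc (b : G) * D.val a = D.val a * b * D.val a * D.val a := by rw [h]
            _ = _ := by rw [mul_assoc, haa, mul_one]
        · exfalso
          simp only [Subgroup.coe_mul] at h
          rw [h, (show Commute (b : G) z from Kmem b).mul_pow, hbn, hzn, one_mul] at hp
          exact hz_ne hp
      -- transport to the centralizer of `t`
      obtain ⟨c, hc⟩ : ∃ c : G, c * D.val a * c⁻¹ = t := by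
        rcases List.mem_cons.1 hacl with h | h
        · exact ⟨1, by rw [h, D.val_tau]; group⟩
        · exact isConj_iff.1 (hw.trans (D.wl_conj h)).symm
      have hcz : c * z * c⁻¹ * t = t * (c * z * c⁻¹) := by
        have := conj_comm (h := c) (D.val_commute ha' (named (by simp)) hacz).symm
        rwa [hc] at this
      obtain ⟨x, hx', hxv, hxc⟩ :=
        D.invol_val (((MulAut.conj c).orderOf_eq z).trans hzo) hcz
      have hnz : ¬ IsConj t z := D.not_conj_z hw
      obtain ⟨c', x', hx'mem, hct, hcz'⟩ : ∃ c' : G, ∃ x' ∈ [zN, mulN tN viN],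
          c' * D.val a * c'⁻¹ = t ∧ c' * z * c'⁻¹ = D.val x' := by
        have hadj : ∀ r m, m < 576 → r < 576 → cjN m r = x → ∃ c' : G,
            c' * D.val a * c'⁻¹ = t ∧ c' * z * c'⁻¹ = D.val r := fun r m hm hr e => by
          refine ⟨(D.val m)⁻¹ * c, ?_, ?_⟩
          · rw [mul_inv_rev, inv_inv, show (D.val m)⁻¹ * c * D.val a * (c⁻¹ * D.val m) =
              (D.val m)⁻¹ * (c * D.val a * c⁻¹) * D.val m by group, hc, mul_assoc, ← D.val_comm m hm,
              inv_mul_cancel_left]
          · rw [mul_inv_rev, inv_inv, show (D.val m)⁻¹ * c * z * (c⁻¹ * D.val m) =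
              (D.val m)⁻¹ * (c * z * c⁻¹) * D.val m by group]
            rw [show c * z * c⁻¹ = D.val m * D.val r * (D.val m)⁻¹ from
              hxv.symm.trans (e ▸ D.val_cj hm hr)]
            group
        have hxconj : IsConj (D.val x) z := by
          rw [show D.val x = c * z * c⁻¹ from hxv]
          exact (isConj_iff.2 ⟨c, rfl⟩).symm
        rcases hxc with rfl | h | h | h
        · rw [D.val_tau] at hxconj; exact absurd hxconj hnz
        · exact absurd ((hw.trans (D.wl_conj h)).trans hxconj) hnz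
        · obtain ⟨m, hm, e⟩ := tl_class x h
          obtain ⟨c', h1, h2⟩ := hadj zN m (List.mem_range.1 hm) (named (by simp)) e
          exact ⟨c', zN, by simp, h1, h2⟩
        · obtain ⟨m, hm, e⟩ := ql_class x h
          obtain ⟨c', h1, h2⟩ := hadj _ m (List.mem_range.1 hm) (ql_lt reps_mem.2.2.1) e
          exact ⟨c', mulN tN viN, by simp, h1, h2⟩
      have hx'lt : x' < 576 := by
        have : ∀ x ∈ [zN, mulN tN viN], x < 576 := by decide +kernel
        exact this x' hx'mem
      obtain ⟨β, hβ, hβv⟩ := D.val_surj (c' * (b : G) * c'⁻¹) (by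
        have := conj_comm (h := c') hba
        rwa [hct] at this)
      have hβn : D.val β ^ n = 1 := by rw [hβv, conj_pow, hbn, mul_one, mul_inv_cancel]
      have hβ9 : orderOf (D.val β) ∣ 9 := by
        have h576 : orderOf (D.val β) ∣ 576 := by
          rw [← D.card_cent, ← Subgroup.orderOf_mk (D.val β)
            (Subgroup.mem_centralizer_singleton_iff.2 (D.val_comm β hβ))]
          exact orderOf_dvd_natCard _
        have ho : Odd (orderOf (D.val β)) := hodd.of_dvd_nat (orderOf_dvd_of_pow_eq_one hβn)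
        exact (Nat.Coprime.pow_right 6 (Nat.coprime_two_right.2 ho)).dvd_of_dvd_mul_left
          (show _ ∣ 2 ^ 6 * 9 from h576)
      by_contra hq1
      obtain ⟨p, hp, hpx, hne0, hnex, h4⟩ := no_odd_normal_two x' hx'mem β (mem_els hβ)
        (D.mul_val_eq hβ hx'lt (by
          rw [hβv, ← hcz']
          exact conj_comm (Kmem b)))
        (odd_order β (mem_els hβ) (D.val_eq_one (powN_lt hβ 9) (by
          rw [D.val_pow hβ, orderOf_dvd_iff_pow_eq_one.1 hβ9])))
        (fun e => hq1 (by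
          rw [e, D.val_zero, eq_comm, conj_eq_one_iff] at hβv
          rw [← hb, show b = 1 from Subtype.ext hβv, map_one]))
      have hplt : p < 576 := List.mem_range.1 hp
      set p₀ : K := ⟨c'⁻¹ * D.val p * c', memK (by
        have h := D.val_commute hplt hx'lt hpx
        rw [← hcz'] at h
        have := conj_comm (h := c'⁻¹) h
        simp only [inv_inv, mul_assoc, inv_mul_cancel_left, inv_mul_cancel, mul_one] at this
        simpa only [mul_assoc] using this)⟩ with hp₀
      have hcm : D.val (cmN p β) = c' * ((p₀ * b * p₀⁻¹ * b⁻¹ : K) : G) * c'⁻¹ := by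
        rw [D.val_cm hplt hβ, hβv]
        simp only [hp₀, Subgroup.coe_mul, Subgroup.coe_inv]
        group
      have hmemO : π (p₀ * b * p₀⁻¹ * b⁻¹) ∈ Cfsg.oddCore (K ⧸ Z) := by
        rw [map_mul, map_mul, map_mul, map_inv, map_inv, hb]
        exact mul_mem (Subgroup.Normal.conj_mem inferInstance _ hq _) (inv_mem hq)
      have hd : orderOf (π (p₀ * b * p₀⁻¹ * b⁻¹)) = 1 := by
        refine Nat.Coprime.eq_one_of_dvd ((Nat.Coprime.pow_right 2 (Nat.coprime_two_right.2
          (hodd.of_dvd_nat (orderOf_dvd_of_pow_eq_one (hnO _ hmemO))))))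
          (orderOf_dvd_of_pow_eq_one ?_)
        rw [show (2 : ℕ) ^ 2 = 4 by norm_num, ← map_pow]
        refine (QuotientGroup.eq_one_iff _).2 (Zmem (Or.inl ?_))
        have := congrArg D.val h4
        rw [D.val_pow (cmN_lt hplt hβ), hcm, conj_pow, D.val_zero, conj_eq_one_iff] at this
        rw [Subgroup.coe_pow]; exact this
      rcases memZ ((QuotientGroup.eq_one_iff _).1 (orderOf_eq_one_iff.1 hd)) with h | h
      · exact hne0 (D.val_eq_one (cmN_lt hplt hβ) (by rw [hcm, h]; group))
      · exact hnex (D.val_inj _ _ (cmN_lt hplt hβ) hx'lt (by rw [hcm, h, hcz']))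
    have hmemK : ∀ a ∈ [tN, wN, mulN zN viN, mulN zN vjN, mulN zN vkN], D.val a ∈ K :=
      fun a ha => memK (D.val_commute (hlist a ha).1 (named (by simp)) (hlist a ha).2.2)
    have hinv : ∀ a (ha : a ∈ [tN, wN, mulN zN viN, mulN zN vjN, mulN zN vkN]),
        ∀ q ∈ Cfsg.oddCore (K ⧸ Z),
          π ⟨D.val a, hmemK a ha⟩ * q * π ⟨D.val a, hmemK a ha⟩ = q⁻¹ := by
      intro a ha
      obtain ⟨ha', hacl, -⟩ := hlist a ha
      have haa : π ⟨D.val a, hmemK a ha⟩ * π ⟨D.val a, hmemK a ha⟩ = 1 := by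
        rw [← map_mul]
        refine (QuotientGroup.eq_one_iff _).2 (Zmem (Or.inl ?_))
        show D.val a * D.val a = 1
        rw [← D.val_mul a a ha' ha', (invol_lists a (by
          rcases List.mem_cons.1 hacl with h | h
          · simp [h]
          · simp [h])).1, D.val_zero]
      have hi : (π ⟨D.val a, hmemK a ha⟩)⁻¹ = π ⟨D.val a, hmemK a ha⟩ :=
        inv_eq_of_mul_eq_one_right haa
      refine CfsgLib.J1Unique.invert_of_fpf _ haa (fun o ho => ?_) (hfix a ha (hmemK a ha))
      have := Subgroup.Normal.conj_mem (inferInstance : (Cfsg.oddCore (K ⧸ Z)).Normal) o ho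
        (π ⟨D.val a, hmemK a ha⟩)
      rwa [hi] at this
    rw [Subgroup.eq_bot_iff_forall]
    intro q hq
    -- five elements invert, and the product of four of them is the fifth
    have hA := hinv tN (by simp) q hq
    have hB := hinv wN (by simp)
    have h3 := hinv (mulN zN viN) (by simp)
    have h4 := hinv (mulN zN vjN) (by simp)
    have h5 := hinv (mulN zN vkN) (by simp)
    have hprod : π ⟨D.val tN, hmemK tN (by simp)⟩ = π ⟨D.val wN, hmemK wN (by simp)⟩ *
        (π ⟨D.val (mulN zN viN), hmemK _ (by simp)⟩ * (π ⟨D.val (mulN zN vjN), hmemK _ (by simp)⟩ *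
          π ⟨D.val (mulN zN vkN), hmemK _ (by simp)⟩)) := by
      rw [← map_mul, ← map_mul, ← map_mul]
      refine congrArg π (Subtype.ext ?_)
      have hlt : ∀ v ∈ [viN, vjN, vkN], mulN zN v < 576 := fun v hv => (v_cases v hv).2.2
      show D.val tN = _
      simp only [Subgroup.coe_mul]
      conv_lhs => rw [← five]
      rw [D.val_mul _ _ (named (by simp)) (mulN_spec (hlt _ (by simp)) (mulN_spec (hlt _ (by simp))
        (hlt _ (by simp))).1).1, D.val_mul _ _ (hlt _ (by simp)) (mulN_spec (hlt _ (by simp))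
        (hlt _ (by simp))).1, D.val_mul _ _ (hlt _ (by simp)) (hlt _ (by simp))]
    set A := π ⟨D.val tN, hmemK tN (by simp)⟩
    set B := π ⟨D.val wN, hmemK wN (by simp)⟩
    set E3 := π ⟨D.val (mulN zN viN), hmemK _ (by simp)⟩
    set E4 := π ⟨D.val (mulN zN vjN), hmemK _ (by simp)⟩
    set E5 := π ⟨D.val (mulN zN vkN), hmemK _ (by simp)⟩
    have hsq : ∀ a (ha : a ∈ [tN, wN, mulN zN viN, mulN zN vjN, mulN zN vkN]),
        (π ⟨D.val a, hmemK a ha⟩)⁻¹ = π ⟨D.val a, hmemK a ha⟩ := fun a ha => by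
      refine inv_eq_of_mul_eq_one_right ?_
      rw [← map_mul]
      refine (QuotientGroup.eq_one_iff _).2 (Zmem (Or.inl ?_))
      show D.val a * D.val a = 1
      rw [← D.val_mul a a (hlist a ha).1 (hlist a ha).1, (invol_lists a (by
        rcases List.mem_cons.1 (hlist a ha).2.1 with h | h
        · simp [h]
        · simp [h])).1, D.val_zero]
    have h1 : A * q * A⁻¹ = q⁻¹ := by rw [show A⁻¹ = A from hsq tN (by simp)]; exact hA
    have h2 : A * q * A⁻¹ = q := by
      rw [hprod, mul_inv_rev, mul_inv_rev, mul_inv_rev, show B⁻¹ = B from hsq wN (by simp),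
        show E3⁻¹ = E3 from hsq _ (by simp), show E4⁻¹ = E4 from hsq _ (by simp),
        show E5⁻¹ = E5 from hsq _ (by simp)]
      calc B * (E3 * (E4 * E5)) * q * (E5 * E4 * E3 * B)
          = B * (E3 * (E4 * (E5 * q * E5) * E4) * E3) * B := by group
        _ = B * (E3 * (E4 * q⁻¹ * E4) * E3) * B := by rw [h5 q hq]
        _ = B * (E3 * q * E3) * B := by rw [h4 _ (inv_mem hq), inv_inv]
        _ = B * q⁻¹ * B := by rw [h3 q hq]
        _ = q := by rw [hB _ (inv_mem hq), inv_inv]
    -- an element of odd order equal to its inverse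
    have hqq : q ^ 2 = 1 := by
      rw [pow_two]
      nth_rewrite 1 [← inv_inv q]
      rw [← h1, h2, inv_mul_cancel]
    have := Nat.Coprime.eq_one_of_dvd (Nat.coprime_two_right.2
      (hodd.of_dvd_nat (orderOf_dvd_of_pow_eq_one (hnO q hq)))) (orderOf_dvd_of_pow_eq_one hqq)
    exact orderOf_eq_one_iff.1 this
  -- the involution is central
  have hcen := CfsgLib.Involutions.ZStar.mem_center_of_oddCore_eq_bot hiso hO
  set kK : K := ⟨k, memK hk⟩ with hkK
  have hc' : π (kK * tK) = π (tK * kK) := by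
    rw [map_mul, map_mul]; exact Subgroup.mem_center_iff.1 hcen (π kK)
  rcases πeq hc' with h | h
  · simp only [Subgroup.coe_mul, hkK, htK] at h
    left
    rw [h, mul_inv_cancel_right]
  · simp only [Subgroup.coe_mul, hkK, htK] at h
    right
    rw [h, mul_assoc t k z, hk, ← mul_assoc, mul_inv_cancel_right, htz, hzt]

/-- The centralizer of `t w`. -/
theorem mem_cent_z (hw : IsConj t (D.val wN)) {g : G} (hg : D.Std g) {k : G}
    (hk : k * D.val zN = D.val zN * k) :
    ∃ m ∈ dl, k = D.val m ∨ k = D.val m * g := by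
  have hgi : g⁻¹ = g := inv_eq_of_mul_eq_one_right hg.gg
  have key : ∀ y : G, y * t * y⁻¹ = t → y * D.val zN = D.val zN * y →
      ∃ m ∈ dl, D.val m = y := by
    intro y hy hyz
    have hyt := mul_inv_eq_iff_eq_mul.1 hy
    obtain ⟨m, hm, rfl⟩ := D.val_surj y hyt
    refine ⟨m, (cent_w m (mem_els hm)).1 (D.mul_val_eq hm (named (by simp)) ?_), rfl⟩
    rw [D.zw, ← mul_assoc, hyt, mul_assoc, mul_assoc] at hyz
    exact mul_left_cancel hyz
  rcases D.conj_t_of_commute_z hw hk with h | h
  · obtain ⟨m, hm, e⟩ := key k h hk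
    exact ⟨m, hm, Or.inl e.symm⟩
  · have hgz : g * D.val zN = D.val zN * g := by
      refine mul_inv_eq_iff_eq_mul.1 ?_
      rw [hgi, D.zw, show g * (t * D.val wN) * g = g * t * g⁻¹ * (g * D.val wN * g) by group, hgi,
        hg.gt, hg.gw, D.val_comm _ (named (by simp))]
    obtain ⟨m, hm, e⟩ := key (k * g) (by
      rw [mul_inv_rev, hgi, show k * g * t * (g * k⁻¹) = k * (g * t * g) * k⁻¹ by group, hg.gt]
      have hkw : k * D.val wN * k⁻¹ = k * (t * D.val zN) * k⁻¹ := by
        rw [D.zw, ← mul_assoc t t, D.tt, one_mul]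
      rw [hkw, show k * (t * D.val zN) * k⁻¹ = k * t * k⁻¹ * (k * D.val zN * k⁻¹) by group, h,
        mul_inv_eq_iff_eq_mul.2 hk, D.zw, ← mul_assoc, D.val_comm _ (named (by simp)), mul_assoc,
        D.ww, mul_one])
      (by rw [mul_assoc, hgz, ← mul_assoc, hk, mul_assoc])
    exact ⟨m, hm, Or.inr (by rw [e, mul_assoc, hg.gg, mul_one])⟩

end Cen

end CfsgLib.U42
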