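import Mathlib.Init

/-!
# A model of the centralizer of a central involution of `PSp₄(3)`

The group `(SL₂(3) ∘ SL₂(3)) : 2` of order `576`; an element `(a, b) w^s` is the number
`(24 s + a) · 12 + b`, where the elements `a + 12` and `a` of `SL₂(3)` differ by sign and `b < 12`.
-/

set_option autoImplicit false

namespace CfsgLib.U42

/-- the multiplication table of `SL₂(3)` -/
def slT : Nat := 0x12031601050002080913100b060f0a0d110c0e14150704170e070d170c10090f1214050a0213010b000415030608111605020800060d0f0a17041309110e140c120103160b1007150f0400090d070b02110a120803100c150113170e05160614080c110216030d06040b09071400050e0a0f011210171513001503040e17070d0a0508060c090f10020b13011611141201170e130f090400081216050d0b02070315100c14060a11160d0603140e000513150b040a01120f08020c110709171007050406171416150c0d0203131110120b080a0900010e0f100607111516080b010c0f0204121305090a14170d00030e15080b16040512130e030c010914170a10110607020f000d0b0a0908070605040302010017161514131211100f0e0d0c060f0a0d110c0e141507041712031601050002080913100b0213010b00041503060811160e070d170c10090f1214050a110e140c120103160b10071505020800060d0f0a1704130903100c150113170e051606140f0400090d070b02110a12081400050e0a0f011210171513080c110216030d06040b09070c090f10020b130116111412001503040e17070d0a0508060d0b02070315100c14060a1101170e130f090400081216050a01120f08020c1107091710160d0603140e000513150b04131110120b080a0900010e0f07050406171416150c0d020304121305090a14170d00030e100607111516080b010c0f020914170a10110607020f000d15080b16040512130e030c0117161514131211100f0e0d0c0b0a09080706050403020100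

/-- the inverses in `SL₂(3)` -/
def slI : Nat := 0x120714150a1710110302010c06130809160b04050f0e0d00

/-- the matrices of the elements of `SL₂(3)`, row by row -/
def slMat : List (Nat × Nat × Nat × Nat) := [(1, 0, 0, 1), (0, 2, 1, 0), (1, 1, 1, 2), (2, 1, 1, 1), (1, 1, 0, 1), (1, 2, 0, 1), (0, 1, 2, 1), (0, 1, 2, 2), (1, 0, 1, 1), (1, 0, 2, 1), (1, 1, 2, 0), (1, 2, 1, 0), (2, 0, 0, 2), (0, 1, 2, 0), (2, 2, 2, 1), (1, 2, 2, 2), (2, 2, 0, 2), (2, 1, 0, 2), (0, 2, 1, 2), (0, 2, 1, 1), (2, 0, 2, 2), (2, 0, 1, 2), (2, 2, 1, 0), (2, 1, 2, 0)]

/-- the product in `SL₂(3)` -/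
def slMul (a b : Nat) : Nat := (slT >>> (8 * (a * 24 + b))) % 256

/-- the inverse in `SL₂(3)` -/
def slInv (a : Nat) : Nat := (slI >>> (8 * a)) % 256

/-- the change of sign -/
def slNeg (a : Nat) : Nat := if a < 12 then a + 12 else a - 12

/-- the element `(a, b) w^s` in normal form -/
def mk (s a b : Nat) : Nat :=
  if b < 12 then (s * 24 + a) * 12 + b else (s * 24 + slNeg a) * 12 + (b - 12)

/-- the exponent of the exchange -/
def mS (m : Nat) : Nat := m / 288

/-- the first component -/
def mA (m : Nat) : Nat := m / 12 % 24

/-- the second component -/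
def mB (m : Nat) : Nat := m % 12

/-- the product -/
def mulN (m n : Nat) : Nat :=
  if mS m = 0 then mk (mS n) (slMul (mA m) (mA n)) (slMul (mB m) (mB n))
  else mk (1 - mS n) (slMul (mA m) (mB n)) (slMul (mB m) (mA n))

/-- the inverse -/
def invN (m : Nat) : Nat :=
  if mS m = 0 then mk 0 (slInv (mA m)) (slInv (mB m)) else mk 1 (slInv (mB m)) (slInv (mA m))

/-- the conjugate -/
def cjN (n m : Nat) : Nat := mulN (mulN n m) (invN n)

/-- the commutator -/
def cmN (n m : Nat) : Nat := mulN (cjN n m) (invN m)

/-- the powers -/
def powN (m : Nat) : Nat → Nat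
  | 0 => 0
  | k + 1 => mulN (powN m k) m

/-- the central involution -/
def tN : Nat := 144

/-- the exchange -/
def wN : Nat := 288

/-- their product -/
def zN : Nat := 432

/-- an element of order four of the first factor -/
def iN : Nat := 12

/-- an element of order three of the first factor -/
def rN : Nat := 48

/-- its conjugate of `iN` -/
def jN : Nat := 24

/-- the three involutions of the diagonal four-group -/
def viN : Nat := 13

/-- the second involution of the diagonal four-group -/
def vjN : Nat := 26

/-- the third involution of the diagonal four-group -/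
def vkN : Nat := 39

/-- the diagonal element of order three -/
def dN : Nat := 52

/-- a conjugate of the exchange not commuting with it -/
def vN : Nat := 341

/-- the class of the exchange -/
def wl : List Nat := [288, 341, 352, 371, 393, 404, 426, 445, 458, 471, 526, 559]

/-- the three lines in the class of the exchange -/
def lineOf (m : Nat) : Nat := if [288, 445, 458, 471].contains m then 0 else if [341, 404, 426, 526].contains m then 1 else 2

/-- the class of the product of the exchange and the central involution -/
def tl : List Nat := [301, 314, 327, 382, 415, 432, 485, 496, 515, 537, 548, 570]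

/-- the class of the noncentral involutions of the largest normal two-subgroup -/
def ql : List Nat := [13, 14, 15, 25, 26, 27, 37, 38, 39, 157, 158, 159, 169, 170, 171, 181, 182, 183]

/-- a Sylow two-subgroup -/
def syl : List Nat := [0, 1, 2, 3, 12, 13, 14, 15, 24, 25, 26, 27, 36, 37, 38, 39, 144, 145, 146, 147, 156, 157, 158, 159, 168, 169, 170, 171, 180, 181, 182, 183, 288, 289, 290, 291, 300, 301, 302, 303, 312, 313, 314, 315, 324, 325, 326, 327, 432, 433, 434, 435, 444, 445, 446, 447, 456, 457, 458, 459, 468, 469, 470, 471]

/-- its subgroup of index two -/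
def qn : List Nat := [0, 1, 2, 3, 12, 13, 14, 15, 24, 25, 26, 27, 36, 37, 38, 39, 144, 145, 146, 147, 156, 157, 158, 159, 168, 169, 170, 171, 180, 181, 182, 183]

/-- the elements of `SL₂(3)` as words in the two generators -/
def slW : List (List Nat) := [[], [2], [4, 2, 4, 4], [4, 4, 2, 4], [4], [4, 4], [2, 2, 2, 4, 4], [2, 2, 2, 4], [4, 2, 4], [2, 2, 2, 4, 2], [2, 2, 4, 4, 2], [4, 2], [2, 2], [2, 2, 2], [2, 4, 4, 2, 4], [4, 2, 4, 4, 2], [2, 2, 4], [2, 2, 4, 4], [2, 4, 4], [2, 4], [2, 4, 4, 2], [2, 4, 2], [4, 4, 2], [2, 2, 4, 2]]

end CfsgLib.U42
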